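import Cfsg.Agent.Lib.Fusion.System.CentralLift.Kernel

/-!
# The kernel is central modulo inner automorphisms

Downward induction: if loops of the lifted maps at larger subgroups are inner, then every
automorphism over `E'` of a fully normalized `R` commutes with the kernel modulo `Inn(R)`.
-/

set_option autoImplicit false
set_option linter.style.haveILetI false
set_option linter.unusedSectionVars false

open Subgroup
open scoped Classical

namespace CfsgLib.Fusion.CentralLift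

open Cfsg (FusionSystem autInducedBy)
open Cfsg.FusionSystem (normalizerIn centralizerIn preimageAlong)
open CfsgLib.Fusion
open CfsgLib.Fusion.ExtLift (exists_exponent pow_eq_self)

universe u v

variable {Ω : Type u} [Group Ω] {Ω' : Type v} [Group Ω'] {S Z : Subgroup Ω} {S' T' : Subgroup Ω'}
  {F : FusionSystem S} {F' : FusionSystem S'} {E' : FusionSystem T'} {θ : S →* Ω'} {p : ℕ}
  [Finite S] [Fact p.Prime] {P Q R : Subgroup Ω} {f g : Ω → Ω} {e : Ω' → Ω'}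

theorem autFun_inv_of_conj {a : MulAut R} {s : Ω} (h : ∀ x ∈ R, autFun a x = s * x * s⁻¹) {y : Ω}
    (hy : y ∈ R) : autFun a⁻¹ y = s⁻¹ * y * s := by
  have h1 := h _ (autFun_mem a⁻¹ hy)
  rw [PPrime.autFun_symm' hy] at h1
  calc autFun a⁻¹ y = s⁻¹ * (s * autFun a⁻¹ y * s⁻¹) * s := by group
    _ = s⁻¹ * y * s := by rw [← h1]

/-- Loops are inner. -/
def Loop (F : FusionSystem S) (Z : Subgroup Ω) (θ : S →* Ω') (E' : FusionSystem T') (p : ℕ)
    (R : Subgroup Ω) : Prop :=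
  ∀ f, GMap F Z θ E' p R f → (∀ x ∈ R, ext1 θ (f x) = ext1 θ x) →
    ∃ r ∈ R, ∀ x ∈ R, f x = r * x * r⁻¹

/-- `a` commutes with the kernel modulo inner automorphisms. -/
def Stab (θ : S →* Ω') (F : FusionSystem S) (R : Subgroup Ω) (a : MulAut R) : Prop :=
  ∀ k, Kelt θ F R k → a * k * a⁻¹ * k⁻¹ ∈ autInducedBy R R

namespace LiftData

variable (d : LiftData F Z θ F' E' p)
include d

theorem stab_mul (hR : R ≤ S) {a b : MulAut R} (ha : a ∈ F.autGroup R) (h₁ : Stab θ F R a)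
    (h₂ : Stab θ F R b) : Stab θ F R (a * b) := fun k hk => by
  have h := mul_mem (inner_conj hR ha (h₂ k hk)) (h₁ k hk)
  rwa [show a * (b * k * b⁻¹ * k⁻¹) * a⁻¹ * (a * k * a⁻¹ * k⁻¹) =
    a * b * k * (a * b)⁻¹ * k⁻¹ by group] at h

theorem stab_inv (hR : R ≤ S) {a : MulAut R} (ha : a ∈ F.autGroup R) (h : Stab θ F R a) :
    Stab θ F R a⁻¹ := fun k hk => by
  have h' := inv_mem (inner_conj hR (inv_mem ha) (h k hk))
  rwa [show (a⁻¹ * (a * k * a⁻¹ * k⁻¹) * a⁻¹⁻¹)⁻¹ = a⁻¹ * k * a⁻¹⁻¹ * k⁻¹ by group] at h'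

theorem stab_conj (hR : R ≤ S) {a x : MulAut R} (hx : x ∈ F.autGroup R) (h : Stab θ F R a) :
    Stab θ F R (x * a * x⁻¹) := fun k hk => by
  have h' := inner_conj hR hx (h _ (d.kelt_conj hR hk (inv_mem hx)))
  rwa [show x * (a * (x⁻¹ * k * x⁻¹⁻¹) * a⁻¹ * (x⁻¹ * k * x⁻¹⁻¹)⁻¹) * x⁻¹ =
    x * a * x⁻¹ * k * (x * a * x⁻¹)⁻¹ * k⁻¹ by group] at h'

theorem stab_kelt (hR : R ≤ S) (hZ : Z ≤ R) {a : MulAut R} (ha : Kelt θ F R a) :
    Stab θ F R a := fun k hk => by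
  rw [d.kelt_comm hR hZ ha hk, mul_inv_cancel_right, mul_inv_cancel]
  exact one_mem _

theorem stab_conjT (hR : R ≤ preimageAlong θ T') (hZ : Z ≤ R) (hc : E'.IsCentric (imgι θ R))
    (hn : F.IsFullyNormalized R) {t : Ω} (ht : t ∈ normalizerIn (preimageAlong θ T') R) :
    Stab θ F R (conjAut t ht.2) := fun k hk => by
  have hRS := d.le_S hR
  obtain ⟨x, hx, hxk, hxc⟩ := d.kelt_conjAut hRS hZ hn hk
  have htS := preimageAlong_le θ T' ht.1
  have hxT : x * t⁻¹ * x⁻¹ ∈ preimageAlong θ T' :=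
    (Subgroup.mem_normalizer_iff.1 ((le_normalizerIn_of_stronglyClosed d.T_closed hx.1).2) _).1
      (inv_mem ht.1)
  set r := t * x * t⁻¹ * x⁻¹ with hr
  have hrT : r ∈ preimageAlong θ T' := by
    rw [hr, show t * x * t⁻¹ * x⁻¹ = t * (x * t⁻¹ * x⁻¹) by group]
    exact mul_mem ht.1 hxT
  have hrR : r ∈ R := by
    refine d.mem_of_ext1 hRS hZ (preimageAlong_le θ T' hrT) (centralizerIn_le_of_isCentric hc ?_)
    refine Subgroup.mem_inf.2 ⟨(mem_preimageAlong.1 hrT).2, ?_⟩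
    rw [show r = (t * x * t⁻¹) * x⁻¹ from rfl,
      ext1_mul θ (mul_mem (mul_mem htS hx.1) (inv_mem htS)) (inv_mem hx.1), ext1_inv θ hx.1,
      ext1_conj θ htS hx.1]
    refine mul_mem (Subgroup.mem_centralizer_iff.2 fun y hy => ?_) (inv_mem hxc)
    have hN := (d.mem_normalizer' hRS ⟨htS, ht.2⟩).2
    have h1 := Subgroup.mem_centralizer_iff.1 hxc _ ((Subgroup.mem_normalizer_iff''.1 hN y).1 hy)
    calc y * (ext1 θ t * ext1 θ x * (ext1 θ t)⁻¹)
        = ext1 θ t * ((ext1 θ t)⁻¹ * y * ext1 θ t * ext1 θ x) * (ext1 θ t)⁻¹ := by group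
      _ = ext1 θ t * ext1 θ x * (ext1 θ t)⁻¹ * y := by rw [h1]; group
  refine mem_autInducedBy_iff.2 ⟨r, hrR, fun y hy => ?_⟩
  have hy1 := autFun_mem k⁻¹ hy
  have hy2 := autFun_mem (conjAut t ht.2)⁻¹ hy1
  rw [autFun_mul _ _ hy, autFun_mul _ _ hy1, autFun_mul _ _ hy2,
    autFun_conjAut ht.2 (autFun_mem k hy2), hxk _ hy2,
    autFun_inv_of_conj (fun z hz => autFun_conjAut ht.2 hz) hy1, autFun_inv_of_conj hxk hy, hr]
  group

/-- Elements of `p`-power order over `E'` commute with the kernel modulo inner automorphisms. -/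
theorem stab_pElement (hR : R ≤ preimageAlong θ T') (hZ : Z ≤ R) (hc : E'.IsCentric (imgι θ R))
    (hn : F.IsFullyNormalized R) {a : MulAut R} (ha : Over1 θ F E' R a) {m : ℕ}
    (hm : a ^ p ^ m = 1) : Stab θ F R a := by
  have hRS := d.le_S hR
  haveI := finite_of_le hRS
  haveI := finite_mulAut (P := R)
  obtain ⟨-, hi⟩ := (isFullyAutomized_iff d.isPGroup).1
    (IsSaturated.automized_receptive d.isPGroup d.sat hn).1
  obtain ⟨δ, hδ, hδA⟩ := exists_conj_le_of_not_dvd_relIndex (isPGroup_autInducedBy d.isPGroup)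
    (autInducedBy_le_autGroup hRS) hi (isPGroup_zpowers_of_pow hm) (Subgroup.zpowers_le.2 ha.1)
  obtain ⟨s, hs, hse⟩ := mem_autInducedBy_iff.1 (hδA (conj_mem_conjBy (Subgroup.mem_zpowers a)))
  have hsN : s ∈ normalizerIn S R := ⟨hs, mem_normalizer_of_autFun hse⟩
  have hover : Over θ E' R (fun x => s * x * s⁻¹) :=
    (d.over1_conj hR ha hδ).2.congr fun x hx => (hse x hx).symm
  obtain ⟨t, ht, hts⟩ := d.exists_conj_mul_kelt hR hZ hn hsN hover
  have htsN : t⁻¹ * s ∈ normalizerIn S R :=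
    Subgroup.mem_inf.2 ⟨mul_mem (inv_mem (preimageAlong_le θ T' ht.1)) hs, mul_mem (inv_mem ht.2) hsN.2⟩
  have heq : δ * a * δ⁻¹ = conjAut t ht.2 * conjAut (t⁻¹ * s) htsN.2 := autFun_ext fun x hx => by
    rw [hse x hx, autFun_mul _ _ hx, autFun_conjAut ht.2 (autFun_mem _ hx),
      autFun_conjAut htsN.2 hx]
    group
  have h1 : Stab θ F R (δ * a * δ⁻¹) := heq ▸ d.stab_mul hRS
    (autInducedBy_le_autGroup hRS (conjAut_mem (preimageAlong_le θ T' ht.1) ht.2))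
    (d.stab_conjT hR hZ hc hn ht) (d.stab_kelt hRS hZ (d.kelt_of_centralize hRS htsN hts))
  have h2 := d.stab_conj hRS (inv_mem hδ) h1
  rwa [show δ⁻¹ * (δ * a * δ⁻¹) * δ⁻¹⁻¹ = a by group] at h2

/-- The case of the whole of `T`: here the extension condition is used. -/
theorem stab_top (hR : R ≤ preimageAlong θ T') (hZ : Z ≤ R) (hRT : imgι θ R = T')
    (hn : F.IsFullyNormalized R) {a : MulAut R}
    (ha : Over1 θ F E' R a) : Stab θ F R a := by
  haveI := d.finite_T'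
  have hRS : R ≤ S := d.le_S hR
  obtain ⟨e, he, hei⟩ := id ha.2
  rw [hRT] at he
  have hemT : img T' e = T' := img_eq_of_map_le le_rfl he le_rfl fun y hy => he.mem_S hy
  obtain ⟨β, hβ, hβT, hβc⟩ := d.normal.2 _ (autOf_mem he hemT)
  have hWS : T' ⊔ centralizerIn S' T' ≤ S' := sup_le d.T'_le inf_le_left
  obtain ⟨f, hf, hfe⟩ := exists_lift_map d.surj ((mem_autGroup_iff hWS).1 hβ)
  have hmemT : ∀ {x : Ω}, x ∈ R → ext1 θ x ∈ T' := fun hx =>
    hRT.le (ext1_mem_imgι hRS hx)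
  have hRW : R ≤ preimageAlong θ (T' ⊔ centralizerIn S' T') := fun x hx =>
    mem_preimageAlong.2 ⟨hRS hx, Subgroup.mem_sup_left (hmemT hx)⟩
  have hfR : ∀ x ∈ R, ext1 θ (f x) = ext1 θ (autFun a x) := fun x hx => by
    rw [hfe x (hRW hx), hei x hx, ← autFun_autOf he hemT (hmemT hx), autFun_apply _ (hmemT hx),
      autFun_apply β (le_sup_left (a := T') (hmemT hx))]
    exact hβT ⟨_, hmemT hx⟩
  have himg : img R f = R := img_eq_of_map_le hRS hf hRW fun x hx =>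
    d.mem_of_ext1 hRS hZ (hf.mem_S (hRW hx))
      (hfR x hx ▸ ext1_mem_imgι hRS (autFun_mem a hx))
  set b := autOf (hf.mono hRW) himg
  have hbv : ∀ x ∈ R, autFun b x = f x := fun x hx => autFun_autOf (hf.mono hRW) himg hx
  have hbS : Stab θ F R b := fun k hk => by
    obtain ⟨x, hx, hxk, hxc⟩ := d.kelt_conjAut hRS hZ hn hk
    rw [hRT] at hxc
    have hxW : x ∈ preimageAlong θ (T' ⊔ centralizerIn S' T') := mem_preimageAlong.2 ⟨hx.1,
      Subgroup.mem_sup_right ⟨d.range.le (ext1_mem_range θ x), hxc⟩⟩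
    have hr : f x * x⁻¹ ∈ R := by
      refine d.mem_of_ext1 hRS hZ (mul_mem (hf.mem_S hxW) (inv_mem hx.1)) ?_
      rw [ext1_mul θ (hf.mem_S hxW) (inv_mem hx.1), ext1_inv θ hx.1, hfe x hxW, hRT]
      have hxW' := (mem_preimageAlong.1 hxW).2
      have h1 := hβc ⟨_, hxW'⟩ ⟨d.range.le (ext1_mem_range θ x), hxc⟩
      rw [← autFun_apply β hxW'] at h1
      rw [show autFun β (ext1 θ x) * (ext1 θ x)⁻¹ =
        ext1 θ x * ((ext1 θ x)⁻¹ * autFun β (ext1 θ x)) * (ext1 θ x)⁻¹ by group,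
        ← Subgroup.mem_centralizer_iff.1 hxc _ h1.1, mul_inv_cancel_right]
      exact h1.1
    refine mem_autInducedBy_iff.2 ⟨f x * x⁻¹, hr, fun y hy => ?_⟩
    have hy1 := autFun_mem k⁻¹ hy
    have hy2 := autFun_mem b⁻¹ hy1
    rw [autFun_mul _ _ hy, autFun_mul _ _ hy1, autFun_mul _ _ hy2, hbv _ (autFun_mem k hy2),
      hxk _ hy2, hf.map_conj hxW (hRW hy2), ← hbv _ hy2, PPrime.autFun_symm' hy1,
      autFun_inv_of_conj hxk hy]
    group
  have hk : Kelt θ F R (b⁻¹ * a) :=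
    ⟨mul_mem (inv_mem (autOf_mem (hf.mono hRW) himg)) ha.1, fun y hy => by
      obtain ⟨b', -, hb'⟩ := exists_image_map d.surj
        ((mem_autGroup_iff hRS).1 (inv_mem (autOf_mem (hf.mono hRW) himg) : b⁻¹ ∈ F.autGroup R))
      rw [autFun_mul _ _ hy, ← hb' _ (autFun_mem a hy), ← hfR y hy, ← hbv y hy,
        hb' _ (autFun_mem b hy), PPrime.autFun_symm hy]⟩
  have h := d.stab_mul hRS (autOf_mem (hf.mono hRW) himg) hbS (d.stab_kelt hRS hZ hk)
  rwa [show b * (b⁻¹ * a) = a by group] at h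

end LiftData

end CfsgLib.Fusion.CentralLift
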