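import Mathlib.GroupTheory.Transfer
import Mathlib.GroupTheory.Sylow
import Cfsg.Prelude.Def_Transfer

/-!
# A central direct factor of a Sylow subgroup whose complement is fusion invariant

If `K` is central, a Sylow `p`-subgroup `P` is `K U` with `K ⊓ U = ⊥` and every conjugate of an
element of `U` lying in `P` lies in `U`, then `K` meets the subgroup generated by `U` and the
elements of order prime to `p` trivially.
-/

set_option autoImplicit false

open Subgroup
open scoped Classical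

namespace CfsgLib.Fusion.CentralLift

variable {G : Type*} [Group G] [Finite G] {p : ℕ} [Fact p.Prime]

theorem inf_closure_eq_bot (P : Sylow p G) {K U : Subgroup G}
    (hK : ∀ k ∈ K, ∀ g : G, g * k = k * g) (hKP : K ≤ P) (hUP : U ≤ P)
    (hP : ∀ y ∈ (P : Subgroup G), ∃ k ∈ K, ∃ u ∈ U, y = k * u) (hKU : K ⊓ U = ⊥)
    (hfus : ∀ (g : G), ∀ u ∈ U, g * u * g⁻¹ ∈ (P : Subgroup G) → g * u * g⁻¹ ∈ U) :
    K ⊓ Subgroup.closure ({g : G | (orderOf g).Coprime p} ∪ U) = ⊥ := by
  have huniq : ∀ {k k' u u' : G}, k ∈ K → k' ∈ K → u ∈ U → u' ∈ U → k * u = k' * u' → k = k' := by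
    intro k k' u u' hk hk' hu hu' h
    have h1 : k'⁻¹ * k ∈ K ⊓ U := by
      refine Subgroup.mem_inf.2 ⟨mul_mem (inv_mem hk') hk, ?_⟩
      have : k'⁻¹ * k = u' * u⁻¹ := by
        rw [eq_mul_inv_iff_mul_eq, mul_assoc, h, inv_mul_cancel_left]
      rw [this]; exact mul_mem hu' (inv_mem hu)
    rw [hKU, Subgroup.mem_bot, inv_mul_eq_one] at h1
    exact h1.symm
  letI : CommGroup K :=
    { (inferInstance : Group K) with
      mul_comm := fun a b => Subtype.ext ((hK b b.2 a)) }
  choose kf hkf uf huf heq using hP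
  let φ : (P : Subgroup G) →* K := MonoidHom.mk' (fun y => ⟨kf y y.2, hkf y y.2⟩) fun a b => by
    refine Subtype.ext (huniq (hkf _ (a * b).2) (mul_mem (hkf _ a.2) (hkf _ b.2)) (huf _ (a * b).2)
      (mul_mem (huf _ a.2) (huf _ b.2)) ?_)
    refine (heq _ (a * b).2).symm.trans ?_
    calc (a : G) * b = (kf a a.2 * uf a a.2) * (kf b b.2 * uf b b.2) := by
          rw [← heq _ a.2, ← heq _ b.2]
      _ = kf a a.2 * (uf a a.2 * kf b b.2) * uf b b.2 := by group
      _ = kf a a.2 * kf b b.2 * (uf a a.2 * uf b b.2) := by rw [hK _ (hkf _ b.2)]; group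
  have hφU : ∀ u : (P : Subgroup G), (u : G) ∈ U → φ u = 1 := fun u hu => Subtype.ext
    (huniq (hkf _ u.2) (one_mem K) (huf _ u.2) hu ((heq _ u.2).symm.trans (one_mul _).symm))
  have hφK : ∀ k : (P : Subgroup G), (k : G) ∈ K → (φ k : G) = k := fun k hk =>
    huniq (hkf _ k.2) hk (huf _ k.2) (one_mem U) ((heq _ k.2).symm.trans (mul_one _).symm)
  haveI : (P : Subgroup G).FiniteIndex := inferInstance
  let τ : G →* K := MonoidHom.transfer φ
  have hKp : IsPGroup p K := P.2.to_le hKP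
  have hgen : Subgroup.closure ({g : G | (orderOf g).Coprime p} ∪ U) ≤ τ.ker := by
    refine (Subgroup.closure_le _).2 fun g hg => ?_
    rcases hg with hg | hg
    · obtain ⟨n, hn⟩ := hKp (τ g)
      refine orderOf_eq_one_iff.1 (Nat.eq_one_of_dvd_coprimes (Nat.Coprime.pow_right n hg)
        (orderOf_map_dvd τ g) (orderOf_dvd_of_pow_eq_one hn))
    · haveI := Fintype.ofFinite (Quotient (MulAction.orbitRel (Subgroup.zpowers g) (G ⧸ (P : Subgroup G))))
      show MonoidHom.transfer φ g = 1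
      rw [MonoidHom.transfer_eq_prod_quotient_orbitRel_zpowers_quot]
      refine Finset.prod_eq_one fun q _ => hφU _ ?_
      have h := hfus (q.out.out)⁻¹ _ (pow_mem hg
        (Function.minimalPeriod (g • ·) q.out)) (by
          rw [inv_inv]
          exact QuotientGroup.out_conj_pow_minimalPeriod_mem (P : Subgroup G) g q.out)
      rwa [inv_inv] at h
  rw [eq_bot_iff]
  rintro k ⟨hk, hkc⟩
  have h1 : τ k = 1 := hgen hkc
  have key : ∀ (j : ℕ) (g₀ : G), g₀⁻¹ * k ^ j * g₀ ∈ (P : Subgroup G) →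
      g₀⁻¹ * k ^ j * g₀ = k ^ j := fun j g₀ _ => by
    rw [hK _ (pow_mem hk j) g₀⁻¹, inv_mul_cancel_right]
  rw [show τ k = _ from MonoidHom.transfer_eq_pow φ k key] at h1
  have h2 : k ^ (P : Subgroup G).index = 1 := by
    have := hφK ⟨k ^ (P : Subgroup G).index, hKP (pow_mem hk _)⟩ (pow_mem hk _)
    exact this.symm.trans (congrArg Subtype.val h1)
  rw [Subgroup.mem_bot]
  obtain ⟨n, hn⟩ := hKp ⟨k, hk⟩
  have hn' : k ^ p ^ n = 1 := congrArg Subtype.val hn
  refine orderOf_eq_one_iff.1 (Nat.eq_one_of_dvd_coprimes ?_ (orderOf_dvd_of_pow_eq_one hn')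
    (orderOf_dvd_of_pow_eq_one h2))
  exact Nat.Coprime.pow_left n ((Fact.out : p.Prime).coprime_iff_not_dvd.2 P.not_dvd_index)

end CfsgLib.Fusion.CentralLift
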