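import Cfsg.Agent.Lib.Fusion.System.CentralLift.Central
import Cfsg.Agent.Lib.Fusion.System.CentralLift.Complement
import Cfsg.Agent.Lib.Fusion.System.FamilySatMain

/-!
# Elements of the generated automizer inducing the identity are inner
-/

set_option autoImplicit false
set_option linter.style.haveILetI false
set_option linter.unusedSectionVars false

open Subgroup
open scoped Classical

namespace CfsgLib.Fusion.CentralLift

open Cfsg (FusionSystem autInducedBy)
open Cfsg.FusionSystem (normalizerIn centralizerIn preimageAlong)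
open CfsgLib.Fusion
open CfsgLib.Fusion.ExtLift (exists_exponent pow_eq_self)

universe u v

variable {Ω : Type u} [Group Ω] {Ω' : Type v} [Group Ω'] {S Z : Subgroup Ω} {S' T' : Subgroup Ω'}
  {F : FusionSystem S} {F' : FusionSystem S'} {E' : FusionSystem T'} {θ : S →* Ω'} {p : ℕ}
  [Finite S] [Fact p.Prime] {P Q R : Subgroup Ω} {f g : Ω → Ω} {e : Ω' → Ω'}

/-- The automizer generated by the lifts. -/
def genAut (F : FusionSystem S) (θ : S →* Ω') (E' : FusionSystem T') (p : ℕ) (R : Subgroup Ω) :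
    Subgroup (MulAut R) :=
  Subgroup.closure ({a | Over1 θ F E' R a ∧ (orderOf a).Coprime p} ∪
    (autInducedBy (preimageAlong θ T') R : Set (MulAut R)))

namespace LiftData

variable (d : LiftData F Z θ F' E' p)
include d

theorem conjAut_over1 (hR : R ≤ preimageAlong θ T') {t : Ω}
    (ht : t ∈ normalizerIn (preimageAlong θ T') R) : Over1 θ F E' R (conjAut t ht.2) :=
  ⟨autInducedBy_le_autGroup (d.le_S hR) (conjAut_mem (preimageAlong_le θ T' ht.1) ht.2),
    (d.over_conj hR ht.1).congr fun _ hx => autFun_conjAut ht.2 hx⟩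

/-- An automorphism of order prime to `p` normalizing the Sylow subgroup extends upwards. -/
theorem stab_normalizing (hR : R ≤ preimageAlong θ T') (hZ : Z ≤ R)
    (hc : E'.IsCentric (imgι θ R)) (hn : F.IsFullyNormalized R)
    (ih : ∀ V, R < V → V ≤ preimageAlong θ T' → Loop F Z θ E' p V) {m : MulAut R}
    (hm : Over1 θ F E' R m) (hco : (orderOf m).Coprime p)
    (hnorm : ∀ t (ht : t ∈ normalizerIn (preimageAlong θ T') R), ∃ s ∈ normalizerIn S R,
      Over θ E' R (fun x => s * x * s⁻¹) ∧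
        ∀ x ∈ R, autFun m (t * autFun m⁻¹ x * t⁻¹) = s * x * s⁻¹) :
    Stab θ F R m := by
  haveI := d.finite_T'
  by_cases hRT : imgι θ R = T'
  · exact d.stab_top hR hZ hRT hn hm
  set T := preimageAlong θ T' with hTd
  have hTS : T ≤ S := preimageAlong_le θ T'
  have hRS := d.le_S hR
  have hne : R ≠ T := fun e => hRT (e ▸ d.imgι_T)
  haveI : Finite T := finite_of_le hTS
  haveI : Group.IsNilpotent T := (d.isPGroup.to_le hTS).isNilpotent
  set V := normalizerIn T R with hVd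
  have hVT : V ≤ T := inf_le_left
  have hVS := hVT.trans hTS
  have hRV : R < V := lt_inf_normalizer hR hne
  have hR'V : imgι θ R ≤ imgι θ V := imgι_mono hRV.le
  -- the image of the normalizer
  have hVimg : ∀ {y : Ω'}, y ∈ normalizerIn T' (imgι θ R) → y ∈ imgι θ V := by
    intro y hy
    obtain ⟨x, hx, rfl⟩ := exists_preimage (α := θ) (d.T'_le.trans d.range.ge) hy.1
    refine ext1_mem_imgι hVS (Subgroup.mem_inf.2 ⟨hx, conjBy_eq_iff.1 (eq_of_le_of_card_le hRS
      (conjBy_le_iff.2 fun z hz => ?_) (card_conjBy x R).ge)⟩)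
    refine d.mem_of_ext1 hRS hZ (mul_mem (mul_mem (hTS hx) (hRS hz)) (inv_mem (hTS hx))) ?_
    rw [ext1_conj θ (hTS hx) (hRS hz)]
    exact (Subgroup.mem_normalizer_iff.1 hy.2 _).1 (ext1_mem_imgι hRS hz)
  -- extend the image of `m`
  obtain ⟨e₀, he₀, hi₀⟩ := id hm.2
  have hR'T := d.imgι_le_T' hR
  have he₀i : img (imgι θ R) e₀ = imgι θ R := img_eq_of_map_le (S := T') hR'T he₀ le_rfl fun y hy => by
    obtain ⟨x, hx, rfl⟩ := (mem_imgι hRS).1 hy
    rw [← hi₀ x hx]
    exact ext1_mem_imgι hRS (autFun_mem m hx)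
  obtain ⟨e, he, hee⟩ := (isReceptive_iff.1 (IsSaturated.automized_receptive d.isPGroupT d.satE
    (d.fullyNormalizedE hR hZ hn)).2).2 _ e₀ he₀ he₀i
  have hext : imgι θ V ≤ extSub T' (imgι θ R) e₀ := by
    intro y hy
    obtain ⟨t, ht, rfl⟩ := (mem_imgι hVS).1 hy
    obtain ⟨s, hs, hso, hse⟩ := hnorm t ht
    obtain ⟨t₂, ht₂, hts⟩ := d.exists_conj_mul_kelt hR hZ hn hs hso
    have htN := d.mem_normalizer' hRS ⟨hTS ht.1, ht.2⟩
    refine ⟨Subgroup.mem_inf.2 ⟨(mem_preimageAlong.1 ht.1).2, htN.2⟩, ext1 θ t₂,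
      (mem_preimageAlong.1 ht₂.1).2, fun y hy => ?_⟩
    obtain ⟨x, hx, rfl⟩ := (mem_imgι hRS).1 hy
    have hmx := autFun_mem m hx
    have h1 := hse _ hmx
    rw [PPrime.autFun_symm hx] at h1
    have htx : t * x * t⁻¹ ∈ R := (Subgroup.mem_normalizer_iff.1 ht.2 x).1 hx
    rw [← ext1_conj θ (hTS ht.1) (hRS hx), ← hi₀ _ htx, h1, ← hi₀ x hx,
      ext1_conj θ hs.1 (hRS hmx)]
    have h2 := Subgroup.mem_centralizer_iff.1 hts _ (ext1_mem_imgι hRS hmx)
    rw [ext1_mul θ (inv_mem (hTS ht₂.1)) hs.1, ext1_inv θ (hTS ht₂.1)] at h2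
    calc ext1 θ s * ext1 θ (autFun m x) * (ext1 θ s)⁻¹
        = ext1 θ t₂ * (((ext1 θ t₂)⁻¹ * ext1 θ s) * ext1 θ (autFun m x)) * (ext1 θ s)⁻¹ := by group
      _ = ext1 θ t₂ * ext1 θ (autFun m x) * (ext1 θ t₂)⁻¹ := by rw [← h2]; group
  have heV := he.mono hext
  have hR'i : img (imgι θ R) e = imgι θ R := by
    rw [IsMap.img_congr hee]; exact he₀i
  have heimg : img (imgι θ V) e = imgι θ V :=
    img_eq_of_map_le (S := T') (d.imgι_le_T' hVT) heV le_rfl fun y hy => by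
      refine hVimg ?_
      have h1 := map_mem_normalizerIn heV hR'V hy ?_
      · rwa [hR'i] at h1
      · obtain ⟨x, hx, rfl⟩ := (mem_imgι hVS).1 hy
        exact (d.mem_normalizer' hRS ⟨hVS hx, hx.2⟩).2
  set a' := autOf heV heimg
  have ha'R : ∀ j : ℕ, ∀ x ∈ R,
      autFun (a' ^ j) (ext1 θ x) = ext1 θ (autFun (m ^ j) x) := by
    intro j
    induction j with
    | zero =>
      intro x hx
      rw [pow_zero, pow_zero, autFun_one hx, autFun_one (hR'V (ext1_mem_imgι hRS hx))]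
    | succ j ihj =>
      intro x hx
      have hmx := autFun_mem (m ^ j) hx
      rw [pow_succ', pow_succ', autFun_mul _ _ hx,
        autFun_mul _ _ (hR'V (ext1_mem_imgι hRS hx)), ihj x hx,
        autFun_autOf heV heimg (hR'V (ext1_mem_imgι hRS hmx)),
        hee _ (ext1_mem_imgι hRS hmx), hi₀ _ hmx]
  haveI : Finite (imgι θ V) := finite_of_le (d.imgι_le_T' hVT)
  haveI := finite_mulAut (P := imgι θ V)
  haveI := finite_of_le hRS
  haveI := finite_mulAut (P := R)
  obtain ⟨q, M, i, hn', hq, -, hiM, hMq, -⟩ := exists_exponent (p := p)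
    (orderOf a' * orderOf m) (Nat.mul_ne_zero (orderOf_pos a').ne' (orderOf_pos m).ne') 0
  have hmM : m ^ M = m := pow_eq_self (Nat.ModEq.of_dvd
    ((hco.pow_right i).dvd_of_dvd_mul_left (hn' ▸ dvd_mul_left (orderOf m) (orderOf a'))) hMq)
  have hcoM : (orderOf (a' ^ M)).Coprime p := by
    refine Nat.Coprime.coprime_dvd_left ?_
      ((Fact.out : p.Prime).coprime_iff_not_dvd.2 hq).symm
    apply orderOf_dvd_of_pow_eq_one
    rw [← pow_mul, ← orderOf_dvd_iff_pow_eq_one]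
    exact (dvd_mul_right _ (orderOf m)).trans (hn'.dvd.trans (Nat.mul_dvd_mul hiM dvd_rfl))
  obtain ⟨h, hh, hhco, hhi⟩ := d.exists_lift_coprime hVT (hZ.trans hRV.le)
    (pow_mem (autOf_mem heV heimg) M) hcoM
  have hhm := (mem_autGroup_iff hVS).1 hh.1
  have hhR : ∀ x ∈ R, ext1 θ (autFun h x) = ext1 θ (autFun m x) := fun x hx => by
    rw [hhi x (hRV.le hx), ha'R M x hx, hmM]
  have hhimg : img R (autFun h) = R := img_eq_of_map_le hRS hhm hRV.le fun x hx =>
    d.mem_of_ext1 hRS hZ (hhm.mem_S (hRV.le hx))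
      (by rw [hhR x hx]; exact ext1_mem_imgι hRS (autFun_mem m hx))
  set b := autOf (hhm.mono hRV.le) hhimg
  have hbv : ∀ x ∈ R, autFun b x = autFun h x := fun x hx =>
    autFun_autOf (hhm.mono hRV.le) hhimg hx
  have hbX : b ∈ F.autGroup R := autOf_mem (hhm.mono hRV.le) hhimg
  have hbS : Stab θ F R b := fun k hk => by
    obtain ⟨x, hx, hxk, hxc⟩ := d.kelt_conjAut hRS hZ hn hk
    -- `x` normalizes `V`
    have hxV : x ∈ Subgroup.normalizer (V : Set Ω) := by
      haveI := finite_of_le hVS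
      refine conjBy_eq_iff.1 (eq_of_le_of_card_le hVS (conjBy_le_iff.2 fun z hz =>
        Subgroup.mem_inf.2 ⟨(Subgroup.mem_normalizer_iff.1
          ((le_normalizerIn_of_stronglyClosed d.T_closed hx.1).2) z).1 hz.1,
          mul_mem (mul_mem hx.2 hz.2) (inv_mem hx.2)⟩) (card_conjBy x V).ge)
    have hcV : conjAut x hxV ∈ F.autGroup V :=
      autInducedBy_le_autGroup hVS (conjAut_mem hx.1 hxV)
    have hh2 : Over1 θ F E' V (conjAut x hxV * h⁻¹ * (conjAut x hxV)⁻¹) :=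
      d.over1_conj hVT (d.over1_inv hVS hh) hcV
    have hh2co : (orderOf (conjAut x hxV * h⁻¹ * (conjAut x hxV)⁻¹)).Coprime p := by
      rw [show conjAut x hxV * h⁻¹ * (conjAut x hxV)⁻¹ = MulAut.conj (conjAut x hxV) h⁻¹ from rfl,
        MulEquiv.orderOf_eq, orderOf_inv]
      exact hhco
    have hV'c : E'.IsCentric (imgι θ V) := isCentric_mono hc hR'V (d.imgι_le_T' hVT)
    have hVZ : Z ≤ V := hZ.trans hRV.le
    set γ := h * (conjAut x hxV * h⁻¹ * (conjAut x hxV)⁻¹) with hγ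
    have hγg : GMap F Z θ E' p V (autFun γ) :=
      ((d.over1_gmap hVZ hVT hV'c hh2 hh2co).comp (d.over1_gmap hVZ hVT hV'c hh hhco)
        fun z hz => autFun_mem _ hz).congr fun z hz => autFun_mul _ _ hz
    have hγm := (d.gmap_isMap hγg).1
    -- on `R` it is the commutator
    have hγR : ∀ y ∈ R, autFun γ y = autFun (b * k * b⁻¹ * k⁻¹) y := by
      intro y hy
      have hyV := hRV.le hy
      have hy1 := autFun_mem k⁻¹ hy
      have hb1 := autFun_mem b⁻¹ hy1
      have e1 : autFun (conjAut x hxV)⁻¹ y = autFun k⁻¹ y := by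
        rw [autFun_inv_of_conj (fun z hz => autFun_conjAut hxV hz) hyV, autFun_inv_of_conj hxk hy]
      have e2 : autFun h⁻¹ (autFun k⁻¹ y) = autFun b⁻¹ (autFun k⁻¹ y) := by
        conv_lhs => rw [show autFun k⁻¹ y = autFun b (autFun b⁻¹ (autFun k⁻¹ y)) from
          (PPrime.autFun_symm' hy1).symm, hbv _ hb1]
        exact PPrime.autFun_symm (hRV.le hb1)
      rw [hγ, autFun_mul _ _ hyV, autFun_mul _ _ hyV, autFun_mul _ _ (autFun_mem _ hyV), e1, e2,
        autFun_conjAut hxV (hRV.le hb1), autFun_mul _ _ hy, autFun_mul _ _ hy1,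
        autFun_mul _ _ hb1, ← hxk _ hb1, hbv _ (autFun_mem k hb1)]
    have hkc : Kelt θ F R (b * k * b⁻¹ * k⁻¹) :=
      d.kelt_mul (d.kelt_conj hRS hk hbX) (d.kelt_inv hk)
    obtain ⟨g', hg', hg'i⟩ := (d.gmap_isMap hγg).2.2.1
    obtain ⟨z', hz', -, hz'e⟩ := exists_eq_conj_of_agree d.isPGroupT d.satE hR'V hc
      (isMap_id (d.imgι_le_T' hVT)) hg' (fun y hy => by
        obtain ⟨w, hw, rfl⟩ := (mem_imgι hRS).1 hy
        rw [← hg'i w (hRV.le hw), hγR w hw, hkc.2 w hw]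
        rfl)
    obtain ⟨z, hz, rfl⟩ := (mem_imgι hRS).1 hz'
    have hzS := hRS hz
    obtain ⟨v, hv, hve⟩ := ih V hRV hVT _
      (hγg.comp (GMap.conj (F := F) (p := p) (Z := Z) (E' := E') hVT (inv_mem (hR hz)))
        fun w hw => autFun_mem γ hw)
      (fun w hw => by
        show ext1 θ (z⁻¹ * autFun γ w * z⁻¹⁻¹) = ext1 θ w
        rw [ext1_conj θ (inv_mem hzS) (hγm.mem_S hw), hg'i w hw,
          hz'e _ (ext1_mem_imgι hVS hw), ext1_inv θ hzS, id, inv_inv]
        group)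
    have hact : ∀ y ∈ R, autFun (b * k * b⁻¹ * k⁻¹) y = z * v * y * (z * v)⁻¹ := fun y hy => by
      have h1 := hve y (hRV.le hy)
      change z⁻¹ * autFun γ y * z⁻¹⁻¹ = v * y * v⁻¹ at h1
      rw [← hγR y hy]
      calc autFun γ y = z * (z⁻¹ * autFun γ y * z⁻¹⁻¹) * z⁻¹ := by group
        _ = z * v * y * (z * v)⁻¹ := by rw [h1]; group
    have hzvS : z * v ∈ S := mul_mem hzS (hVS hv)
    refine mem_autInducedBy_iff.2 ⟨z * v, ?_, hact⟩
    refine d.mem_of_ext1 hRS hZ hzvS (centralizerIn_le_of_isCentric hc ?_)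
    refine Subgroup.mem_inf.2 ⟨(mem_preimageAlong.1 (mul_mem (hR hz) (hVT hv))).2,
      Subgroup.mem_centralizer_iff.2 fun y hy => ?_⟩
    obtain ⟨w, hw, rfl⟩ := (mem_imgι hRS).1 hy
    have h1 := hkc.2 w hw
    rw [hact w hw, ext1_conj θ hzvS (hRS hw)] at h1
    calc ext1 θ w * ext1 θ (z * v)
        = ext1 θ (z * v) * ext1 θ w * (ext1 θ (z * v))⁻¹ * ext1 θ (z * v) := by rw [h1]
      _ = ext1 θ (z * v) * ext1 θ w := by rw [inv_mul_cancel_right]
  have hk : Kelt θ F R (b⁻¹ * m) :=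
    ⟨mul_mem (inv_mem hbX) hm.1, fun y hy => by
      obtain ⟨b', -, hb'⟩ := exists_image_map d.surj
        ((mem_autGroup_iff hRS).1 (inv_mem hbX : b⁻¹ ∈ F.autGroup R))
      rw [autFun_mul _ _ hy, ← hb' _ (autFun_mem m hy), ← hhR y hy, ← hbv y hy,
        hb' _ (autFun_mem b hy), PPrime.autFun_symm hy]⟩
  have h1 := d.stab_mul hRS hbX hbS (d.stab_kelt hRS hZ hk)
  rwa [show b * (b⁻¹ * m) = m by group] at h1

/-- Every automorphism over `E'` commutes with the kernel modulo inner automorphisms. -/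
theorem stab_over1 (hR : R ≤ preimageAlong θ T') (hZ : Z ≤ R)
    (hc : E'.IsCentric (imgι θ R)) (hn : F.IsFullyNormalized R)
    (ih : ∀ V, R < V → V ≤ preimageAlong θ T' → Loop F Z θ E' p V) {a : MulAut R}
    (ha : Over1 θ F E' R a) : Stab θ F R a := by
  have hRS := d.le_S hR
  haveI := finite_of_le hRS
  haveI := finite_mulAut (P := R)
  set X := F.autGroup R with hX
  obtain ⟨-, hi⟩ := (isFullyAutomized_iff d.isPGroup).1
    (IsSaturated.automized_receptive d.isPGroup d.sat hn).1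
  set L : Subgroup X := Subgroup.closure
    {x : X | Over1 θ F E' R x ∧ ∃ k : ℕ, x ^ p ^ k = 1} with hL
  haveI : L.Normal := ⟨fun x hx g => by
    have hle : L ≤ L.comap (MulAut.conj g).toMonoidHom := (Subgroup.closure_le _).2
      fun y ⟨hy, k, hk⟩ => Subgroup.subset_closure ⟨d.over1_conj hR hy g.2, k, by
        show (MulAut.conj g y) ^ p ^ k = 1
        rw [← map_pow, hk, map_one]⟩
    exact hle hx⟩
  have hLm : ∀ x ∈ L, Over1 θ F E' R (x : X) ∧ Stab θ F R ((x : X) : MulAut R) := by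
    intro x hx
    induction hx using Subgroup.closure_induction with
    | mem y hy =>
      obtain ⟨hy, k, hk⟩ := hy
      exact ⟨hy, d.stab_pElement hR hZ hc hn hy (m := k) (congrArg Subtype.val hk)⟩
    | one => exact ⟨d.over1_one hR, d.stab_kelt hRS hZ (d.kelt_one hRS)⟩
    | mul u w _ _ hu hw => exact ⟨d.over1_mul hRS hu.1 hw.1, d.stab_mul hRS u.2 hu.2 hw.2⟩
    | inv u _ hu => exact ⟨d.over1_inv hRS hu.1, d.stab_inv hRS u.2 hu.2⟩
  set A := (autInducedBy S R).subgroupOf X with hA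
  have hAp : IsPGroup p A := (isPGroup_autInducedBy d.isPGroup).of_equiv
    (Subgroup.subgroupOfEquivOfLe (autInducedBy_le_autGroup hRS)).symm
  obtain ⟨n, l, hnl, hl, hnN, -⟩ :=
    FamilySat.exists_frattini (T := A) (D := L) d.isPGroup hAp hi ⟨a, ha.1⟩
  have hae : a = (n : MulAut R) * (l : MulAut R) := congrArg Subtype.val hnl
  have hno : Over1 θ F E' R (n : MulAut R) := by
    have := d.over1_mul hRS ha (d.over1_inv hRS (hLm l hl).1)
    rwa [hae, mul_inv_cancel_right] at this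
  -- `p`-part and `p'`-part of `n`
  obtain ⟨q, M, i, hn', hq, -, hiM, hMq, -⟩ :=
    exists_exponent (p := p) (orderOf n) (orderOf_pos n).ne' 0
  have hco : (orderOf ((n : MulAut R) ^ M)).Coprime p := by
    refine Nat.Coprime.coprime_dvd_left ?_
      ((Fact.out : p.Prime).coprime_iff_not_dvd.2 hq).symm
    rw [← Subgroup.coe_pow, Subgroup.orderOf_coe]
    apply orderOf_dvd_of_pow_eq_one
    rw [← pow_mul, ← orderOf_dvd_iff_pow_eq_one, hn']
    exact Nat.mul_dvd_mul hiM dvd_rfl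
  have hp2 : ((n * (n ^ M)⁻¹ : X)) ^ p ^ i = 1 := by
    rw [(Commute.refl n).pow_right M |>.inv_right.mul_pow, inv_pow, ← pow_mul, mul_inv_eq_one]
    apply pow_eq_pow_iff_modEq.2
    rw [hn', mul_comm (p ^ i) q]
    have h0 : M ≡ 1 [MOD q] := hMq
    simpa using (h0.symm.mul_right' (p ^ i))
  have hpo : Over1 θ F E' R ((n * (n ^ M)⁻¹ : X) : MulAut R) := by
    rw [Subgroup.coe_mul, Subgroup.coe_inv, Subgroup.coe_pow]
    exact d.over1_mul hRS hno (d.over1_inv hRS (d.over1_pow hR hno M))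
  have hnorm : ∀ t (ht : t ∈ normalizerIn (preimageAlong θ T') R), ∃ s ∈ normalizerIn S R,
      Over θ E' R (fun x => s * x * s⁻¹) ∧ ∀ x ∈ R, autFun ((n : MulAut R) ^ M)
        (t * autFun ((n : MulAut R) ^ M)⁻¹ x * t⁻¹) = s * x * s⁻¹ := by
    intro t ht
    have hto := d.conjAut_over1 hR ht
    have hcA : (⟨conjAut t ht.2, hto.1⟩ : X) ∈ A :=
      Subgroup.mem_subgroupOf.2 (conjAut_mem (preimageAlong_le θ T' ht.1) ht.2)
    have hcL : (⟨conjAut t ht.2, hto.1⟩ : X) ∈ A ⊓ L := by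
      obtain ⟨k, hk⟩ := hAp ⟨_, hcA⟩
      exact ⟨hcA, Subgroup.subset_closure ⟨hto, k, congrArg Subtype.val hk⟩⟩
    have h1 := ((Subgroup.mem_normalizer_iff.1 (pow_mem hnN M)) _).1 hcL
    obtain ⟨s, hs, hse⟩ := mem_autInducedBy_iff.1 (Subgroup.mem_subgroupOf.1 h1.1)
    refine ⟨s, ⟨hs, mem_normalizer_of_autFun hse⟩,
      (hLm _ h1.2).1.2.congr fun x hx => (hse x hx).symm, fun x hx => ?_⟩
    rw [← hse x hx, Subgroup.coe_mul, Subgroup.coe_mul, Subgroup.coe_inv, Subgroup.coe_pow,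
      autFun_mul _ _ hx, autFun_mul _ _ (autFun_mem _ hx),
      autFun_conjAut ht.2 (autFun_mem _ hx)]
  have h1 := d.stab_normalizing hR hZ hc hn ih (d.over1_pow hR hno M) hco hnorm
  have h2 := d.stab_pElement hR hZ hc hn hpo (m := i) (congrArg Subtype.val hp2)
  have h3 := d.stab_mul hRS (SetLike.coe_mem (n * (n ^ M)⁻¹ : X)) h2 h1
  rw [Subgroup.coe_mul, Subgroup.coe_inv, Subgroup.coe_pow, inv_mul_cancel_right] at h3
  rw [hae]
  exact d.stab_mul hRS n.2 h3 (hLm l hl).2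

/-- Elements of the generated automizer inducing the identity are inner. -/
theorem inner_of_genAut (hR : R ≤ preimageAlong θ T') (hZ : Z ≤ R)
    (hc : E'.IsCentric (imgι θ R)) (hn : F.IsFullyNormalized R)
    (ih : ∀ V, R < V → V ≤ preimageAlong θ T' → Loop F Z θ E' p V) {g : MulAut R}
    (hg : g ∈ genAut F θ E' p R) (hgk : Kelt θ F R g) : g ∈ autInducedBy R R := by
  have hRS := d.le_S hR
  haveI := finite_of_le hRS
  haveI := finite_mulAut (P := R)
  let A1 : Subgroup (MulAut R) :=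
    { carrier := {a | Over1 θ F E' R a}
      one_mem' := d.over1_one hR
      mul_mem' := fun ha hb => d.over1_mul hRS ha hb
      inv_mem' := fun ha => d.over1_inv hRS ha }
  set N := (autInducedBy R R).subgroupOf A1 with hN
  haveI : N.Normal := ⟨fun c hc' x =>
    Subgroup.mem_subgroupOf.2 (inner_conj hRS x.2.1 (Subgroup.mem_subgroupOf.1 hc'))⟩
  have hNA : autInducedBy R R ≤ A1 := fun a ha => by
    obtain ⟨r, hr, hre⟩ := mem_autInducedBy_iff.1 ha
    exact ⟨inner_le hRS ha, (d.over_conj hR (hR hr)).congr hre⟩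
  let K₀ : Subgroup A1 :=
    { carrier := {a | Kelt θ F R (a : MulAut R)}
      one_mem' := d.kelt_one hRS
      mul_mem' := fun {a b} ha hb => d.kelt_mul ha hb
      inv_mem' := fun {a} ha => d.kelt_inv ha }
  set π := QuotientGroup.mk' N with hπ
  set U₀ := (autInducedBy (preimageAlong θ T') R).subgroupOf A1 with hU₀
  set P₀ := (autInducedBy S R).subgroupOf A1 with hP₀
  have hUP : U₀ ≤ P₀ := Subgroup.comap_mono (autInducedBy_mono (preimageAlong_le θ T'))
  have hKP : K₀ ≤ P₀ := fun a ha => by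
    obtain ⟨x, hx, hxe, -⟩ := d.kelt_conjAut hRS hZ hn ha
    exact Subgroup.mem_subgroupOf.2 (mem_autInducedBy_iff.2 ⟨x, hx.1, hxe⟩)
  have hNU : N ≤ U₀ := Subgroup.comap_mono (autInducedBy_mono hR)
  -- `P₀` is a Sylow subgroup
  have hP₀p : IsPGroup p P₀ := by
    intro a
    obtain ⟨k, hk⟩ := isPGroup_autInducedBy (P := R) d.isPGroup ⟨_, Subgroup.mem_subgroupOf.1 a.2⟩
    exact ⟨k, Subtype.ext (Subtype.ext (congrArg Subtype.val hk :))⟩
  have hP₀i : ¬ p ∣ P₀.index := by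
    obtain ⟨-, hi⟩ := (isFullyAutomized_iff d.isPGroup).1
      (IsSaturated.automized_receptive d.isPGroup d.sat hn).1
    haveI : (A1.subgroupOf (F.autGroup R)).Normal :=
      ⟨fun a ha x => d.over1_conj hR ha x.2⟩
    intro hdvd
    obtain ⟨Rs, hRs⟩ := IsPGroup.exists_le_sylow hP₀p
    have hRp : IsPGroup p ((Rs : Subgroup A1).map A1.subtype) := Rs.2.map _
    obtain ⟨δ, hδ, hδA⟩ := exists_conj_le_of_not_dvd_relIndex (isPGroup_autInducedBy d.isPGroup)
      (autInducedBy_le_autGroup hRS) hi hRp (fun z hz => by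
        obtain ⟨w, -, rfl⟩ := hz; exact w.2.1)
    have hle : Nat.card (Rs : Subgroup A1) ≤ Nat.card P₀ := by
      have h1 : conjBy δ ((Rs : Subgroup A1).map A1.subtype) ≤ autInducedBy S R ⊓ A1 :=
        le_inf hδA (conjBy_le_iff.2 fun z hz => by
          obtain ⟨w, -, rfl⟩ := hz; exact d.over1_conj hR w.2 hδ)
      have h2 := Subgroup.card_le_of_le h1
      rw [card_conjBy, Subgroup.card_map_of_injective A1.subtype_injective] at h2
      refine h2.trans (le_of_eq ?_)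
      rw [← Subgroup.subgroupOf_map_subtype,
        Subgroup.card_map_of_injective A1.subtype_injective]
    rw [Subgroup.eq_of_le_of_card_ge hRs hle] at hdvd
    exact Rs.not_dvd_index hdvd
  let PS : Sylow p (A1 ⧸ N) := (hP₀p.map π).toSylow fun hd => hP₀i (hd.trans
    (Subgroup.index_map_dvd P₀ (QuotientGroup.mk'_surjective N)))
  have hPS : (PS : Subgroup (A1 ⧸ N)) = P₀.map π := rfl
  have hsplit : ∀ a ∈ P₀, ∃ k ∈ K₀, ∃ u ∈ U₀, π a = π k * π u := by
    intro a ha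
    obtain ⟨s, hs, hse⟩ := mem_autInducedBy_iff.1 (Subgroup.mem_subgroupOf.1 ha)
    have hsN : s ∈ normalizerIn S R := Subgroup.mem_inf.2 ⟨hs, mem_normalizer_of_autFun hse⟩
    obtain ⟨t, ht, hts⟩ := d.exists_conj_mul_kelt hR hZ hn hsN
      (a.2.2.congr fun x hx => (hse x hx).symm)
    have htsN : t⁻¹ * s ∈ normalizerIn S R := Subgroup.mem_inf.2
      ⟨mul_mem (inv_mem (preimageAlong_le θ T' ht.1)) hs, mul_mem (inv_mem ht.2) hsN.2⟩
    have hk := d.kelt_of_centralize hRS htsN hts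
    set k : A1 := ⟨_, d.kelt_over1 hR hk⟩
    set u : A1 := ⟨_, d.conjAut_over1 hR ht⟩
    refine ⟨k, hk, u, Subgroup.mem_subgroupOf.2 (conjAut_mem ht.1 ht.2), ?_⟩
    have hau : a = u * k := Subtype.ext (autFun_ext fun x hx => by
      rw [hse x hx, Subgroup.coe_mul, autFun_mul _ _ hx]
      rw [show ((u : A1) : MulAut R) = conjAut t ht.2 from rfl,
        show ((k : A1) : MulAut R) = conjAut (t⁻¹ * s) htsN.2 from rfl,
        autFun_conjAut ht.2 (autFun_mem _ hx), autFun_conjAut htsN.2 hx]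
      group)
    rw [hau, ← map_mul, hπ, QuotientGroup.mk'_eq_mk']
    refine ⟨(u * k)⁻¹ * (k * u), ?_, by group⟩
    refine Subgroup.mem_subgroupOf.2 ?_
    have h1 := inner_conj hRS (inv_mem (mul_mem hk.1 (d.conjAut_over1 hR ht).1))
      (d.stab_conjT hR hZ hc hn ht _ hk)
    rw [Subgroup.coe_mul, Subgroup.coe_inv, Subgroup.coe_mul, Subgroup.coe_mul]
    convert inv_mem h1 using 1
    simp only [k, u]
    group
  have key := inf_closure_eq_bot PS (K := K₀.map π) (U := U₀.map π) ?_ (Subgroup.map_mono hKP)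
    (Subgroup.map_mono hUP) ?_ ?_ ?_
  · have hgA : g ∈ A1 := d.kelt_over1 hR hgk
    have h1 : π ⟨g, hgA⟩ ∈ Subgroup.closure
        ({x : A1 ⧸ N | (orderOf x).Coprime p} ∪ (U₀.map π : Set (A1 ⧸ N))) := by
      suffices h : ∀ w ∈ genAut F θ E' p R, ∃ hw : w ∈ A1, π ⟨w, hw⟩ ∈ Subgroup.closure
          ({x : A1 ⧸ N | (orderOf x).Coprime p} ∪ (U₀.map π : Set (A1 ⧸ N))) by
        obtain ⟨_, h'⟩ := h g hg; exact h'
      intro w hw
      induction hw using Subgroup.closure_induction with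
      | mem w hw =>
        rcases hw with ⟨hw, hwc⟩ | hw
        · refine ⟨hw, Subgroup.subset_closure (Or.inl ?_)⟩
          refine Nat.Coprime.coprime_dvd_left (orderOf_map_dvd π _) ?_
          rwa [← Subgroup.orderOf_coe]
        · obtain ⟨t, ht, hte⟩ := mem_autInducedBy_iff.1 hw
          have hwA : w ∈ A1 := ⟨autInducedBy_le_autGroup hRS
            (autInducedBy_mono (preimageAlong_le θ T') hw), (d.over_conj hR ht).congr hte⟩
          exact ⟨hwA, Subgroup.subset_closure (Or.inr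
            ⟨⟨w, hwA⟩, Subgroup.mem_subgroupOf.2 hw, rfl⟩)⟩
      | one =>
        exact ⟨one_mem A1, by
          rw [show (⟨1, one_mem A1⟩ : A1) = 1 from rfl, map_one]; exact one_mem _⟩
      | mul a b _ _ ha hb =>
        obtain ⟨ha, ha'⟩ := ha; obtain ⟨hb, hb'⟩ := hb
        exact ⟨mul_mem ha hb, by
          rw [show (⟨a * b, mul_mem ha hb⟩ : A1) = ⟨a, ha⟩ * ⟨b, hb⟩ from rfl, map_mul]
          exact mul_mem ha' hb'⟩
      | inv a _ ha =>
        obtain ⟨ha, ha'⟩ := ha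
        exact ⟨inv_mem ha, by
          rw [show (⟨a⁻¹, inv_mem ha⟩ : A1) = (⟨a, ha⟩ : A1)⁻¹ from rfl, map_inv]
          exact inv_mem ha'⟩
    have h2 : π ⟨g, hgA⟩ ∈ (⊥ : Subgroup (A1 ⧸ N)) :=
      key.le (Subgroup.mem_inf.2 ⟨⟨⟨g, hgA⟩, hgk, rfl⟩, h1⟩)
    rw [Subgroup.mem_bot, hπ, QuotientGroup.mk'_apply, QuotientGroup.eq_one_iff] at h2
    exact Subgroup.mem_subgroupOf.1 h2
  · rintro _ ⟨k, hk, rfl⟩ x
    obtain ⟨a, rfl⟩ := QuotientGroup.mk'_surjective N x
    rw [← map_mul, ← map_mul, QuotientGroup.mk'_eq_mk']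
    refine ⟨(a * k)⁻¹ * (k * a), ?_, by group⟩
    refine Subgroup.mem_subgroupOf.2 ?_
    have h1 := inner_conj hRS (inv_mem (mul_mem (show (k : MulAut R) ∈ F.autGroup R from hk.1) a.2.1))
      (d.stab_over1 hR hZ hc hn ih a.2 _ hk)
    rw [Subgroup.coe_mul, Subgroup.coe_inv, Subgroup.coe_mul, Subgroup.coe_mul]
    convert inv_mem h1 using 1
    group
  · rintro y ⟨a, ha, rfl⟩
    obtain ⟨k, hk, u, hu, he⟩ := hsplit a ha
    exact ⟨_, ⟨k, hk, rfl⟩, _, ⟨u, hu, rfl⟩, he⟩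
  · rw [eq_bot_iff]
    rintro y ⟨⟨k, hk, rfl⟩, ⟨u, hu, hku⟩⟩
    rw [Subgroup.mem_bot, hπ, QuotientGroup.mk'_apply, QuotientGroup.eq_one_iff]
    obtain ⟨z, hz, hze⟩ := (QuotientGroup.mk'_eq_mk' N).1 hku
    have hkU : k ∈ U₀ := hze ▸ mul_mem hu (hNU hz)
    obtain ⟨t, ht, hte⟩ := mem_autInducedBy_iff.1 (Subgroup.mem_subgroupOf.1 hkU)
    refine Subgroup.mem_subgroupOf.2 (mem_autInducedBy_iff.2 ⟨t, ?_, hte⟩)
    have htS := preimageAlong_le θ T' ht
    refine d.mem_of_ext1 hRS hZ htS (centralizerIn_le_of_isCentric hc ?_)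
    refine Subgroup.mem_inf.2 ⟨(mem_preimageAlong.1 ht).2,
      Subgroup.mem_centralizer_iff.2 fun y hy => ?_⟩
    obtain ⟨w, hw, rfl⟩ := (mem_imgι hRS).1 hy
    have h1 := hk.2 w hw
    rw [hte w hw, ext1_conj θ htS (hRS hw)] at h1
    calc ext1 θ w * ext1 θ t = ext1 θ t * ext1 θ w * (ext1 θ t)⁻¹ * ext1 θ t := by rw [h1]
      _ = ext1 θ t * ext1 θ w := by rw [inv_mul_cancel_right]
  · rintro x _ ⟨u, hu, rfl⟩ hmem
    obtain ⟨a, rfl⟩ := QuotientGroup.mk'_surjective N x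
    rw [← map_inv, ← map_mul, ← map_mul, hPS] at hmem
    rw [← map_inv, ← map_mul, ← map_mul]
    obtain ⟨c, hc', hce⟩ := hmem
    obtain ⟨z, hz, hze⟩ := (QuotientGroup.mk'_eq_mk' N).1 hce
    have hP : a * u * a⁻¹ ∈ P₀ := hze ▸ mul_mem hc' (hUP (hNU hz))
    refine ⟨_, ?_, rfl⟩
    obtain ⟨t, ht, hte⟩ := mem_autInducedBy_iff.1 (Subgroup.mem_subgroupOf.1 hu)
    obtain ⟨s, hs, hse⟩ := mem_autInducedBy_iff.1 (Subgroup.mem_subgroupOf.1 hP)
    have ham := (mem_autGroup_iff hRS).1 a.2.1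
    have htN : t ∈ normalizerIn S R :=
      Subgroup.mem_inf.2 ⟨preimageAlong_le θ T' ht, mem_normalizer_of_autFun hte⟩
    have hext : t ∈ extSub S R (autFun (a : MulAut R)) := ⟨htN, s, hs, fun y hy => by
      have h1 := hse _ (autFun_mem (a : MulAut R) hy)
      rw [Subgroup.coe_mul, Subgroup.coe_mul, Subgroup.coe_inv,
        autFun_mul _ _ (autFun_mem _ hy), autFun_mul _ _ (autFun_mem _ (autFun_mem _ hy)),
        PPrime.autFun_symm hy, hte y hy] at h1
      exact h1⟩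
    obtain ⟨gx, hgx, hgxe⟩ := (isReceptive_iff.1
      (IsSaturated.automized_receptive d.isPGroup d.sat hn).2).2 R _ ham (img_autFun _)
    refine Subgroup.mem_subgroupOf.2 (mem_autInducedBy_iff.2 ⟨gx t,
      SubsystemCentric.map_mem_of_stronglyClosed d.T_closed hgx hext ht, fun y hy => ?_⟩)
    have hy1 := autFun_mem ((a : MulAut R))⁻¹ hy
    have hRX := le_extSub (S := S) ham
    rw [Subgroup.coe_mul, Subgroup.coe_mul, Subgroup.coe_inv, autFun_mul _ _ hy,
      autFun_mul _ _ hy1, hte _ hy1,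
      ← hgxe _ ((Subgroup.mem_normalizer_iff.1 htN.2 _).1 hy1), hgx.map_conj hext (hRX hy1),
      hgxe _ hy1, PPrime.autFun_symm' hy]

end LiftData

end CfsgLib.Fusion.CentralLift
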