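import Cfsg.Agent.Lib.Fusion.System.CentralLift.Lifts
import Cfsg.Agent.Lib.Fusion.System.ConstrainedNormalSub

/-!
# The automorphisms inducing the identity on the quotient, at a fully normalized subgroup

At a fully normalized centric preimage `R` the kernel `K` of the restriction to `R/Z` consists of
conjugations, is abelian and normal, and every element of `p`-power order lying over `E'` is a
conjugation by an element of `T` times an element of `K`.
-/

set_option autoImplicit false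
set_option linter.style.haveILetI false
set_option linter.unusedSectionVars false

open Subgroup
open scoped Classical

namespace CfsgLib.Fusion.CentralLift

open Cfsg (FusionSystem autInducedBy)
open Cfsg.FusionSystem (normalizerIn centralizerIn preimageAlong)
open CfsgLib.Fusion

universe u v

variable {Ω : Type u} [Group Ω] {Ω' : Type v} [Group Ω'] {S Z : Subgroup Ω} {S' T' : Subgroup Ω'}
  {F : FusionSystem S} {F' : FusionSystem S'} {E' : FusionSystem T'} {θ : S →* Ω'} {p : ℕ}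
  [Finite S] [Fact p.Prime] {P Q R : Subgroup Ω} {f g : Ω → Ω} {e : Ω' → Ω'}

/-- `k` induces the identity on the image. -/
def Kelt (θ : S →* Ω') (F : FusionSystem S) (R : Subgroup Ω) (k : MulAut R) : Prop :=
  k ∈ F.autGroup R ∧ ∀ x ∈ R, ext1 θ (autFun k x) = ext1 θ x

theorem inner_conj (hR : R ≤ S) {x c : MulAut R} (hx : x ∈ F.autGroup R)
    (hc : c ∈ autInducedBy R R) : x * c * x⁻¹ ∈ autInducedBy R R := by
  obtain ⟨g, hg, hge⟩ := mem_autInducedBy_iff.1 hc
  refine mem_autInducedBy_iff.2 ⟨autFun x g, autFun_mem x hg, fun y hy => ?_⟩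
  have hxm := (mem_autGroup_iff hR).1 hx
  have hy' := autFun_mem x⁻¹ hy
  rw [autFun_mul _ _ hy, autFun_mul _ _ hy', hge _ hy', hxm.map_conj hg hy',
    PPrime.autFun_symm' hy]

theorem inner_le (hR : R ≤ S) : autInducedBy R R ≤ F.autGroup R :=
  (autInducedBy_mono hR).trans (autInducedBy_le_autGroup hR)

namespace LiftData

variable (d : LiftData F Z θ F' E' p)
include d

theorem kelt_fix_Z (hR : R ≤ S) {k : MulAut R} (hk : Kelt θ F R k) {x : Ω} (hx : x ∈ R) :
    x⁻¹ * autFun k x ∈ Z :=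
  d.inv_mul_mem (hR hx) (hR (autFun_mem k hx)) (hk.2 x hx).symm

theorem kelt_over1 (hR : R ≤ preimageAlong θ T') {k : MulAut R} (hk : Kelt θ F R k) :
    Over1 θ F E' R k := by
  obtain ⟨e, he, hi⟩ := d.over_id hR
  exact ⟨hk.1, e, he, fun x hx => (hk.2 x hx).trans (hi x hx)⟩

theorem kelt_conj (hR : R ≤ S) {k x : MulAut R} (hk : Kelt θ F R k) (hx : x ∈ F.autGroup R) :
    Kelt θ F R (x * k * x⁻¹) := by
  refine ⟨mul_mem (mul_mem hx hk.1) (inv_mem hx), fun y hy => ?_⟩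
  have hy' := autFun_mem x⁻¹ hy
  obtain ⟨x', -, hxe⟩ := exists_image_map d.surj ((mem_autGroup_iff hR).1 hx)
  rw [autFun_mul _ _ hy, autFun_mul _ _ hy', ← hxe _ (autFun_mem k hy'), hk.2 _ hy',
    hxe _ hy', PPrime.autFun_symm' hy]

theorem kelt_one (hR : R ≤ S) : Kelt θ F R (1 : MulAut R) :=
  ⟨one_mem _, fun x hx => by rw [autFun_one hx]⟩

theorem kelt_mul {a b : MulAut R} (ha : Kelt θ F R a) (hb : Kelt θ F R b) :
    Kelt θ F R (a * b) :=
  ⟨mul_mem ha.1 hb.1, fun x hx => by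
    rw [autFun_mul _ _ hx, ha.2 _ (autFun_mem b hx), hb.2 x hx]⟩

theorem kelt_inv {a : MulAut R} (ha : Kelt θ F R a) : Kelt θ F R a⁻¹ :=
  ⟨inv_mem ha.1, fun x hx => by
    rw [← ha.2 _ (autFun_mem a⁻¹ hx), PPrime.autFun_symm' hx]⟩

/-- The kernel is abelian. -/
theorem kelt_comm (hR : R ≤ S) (hZ : Z ≤ R) {a b : MulAut R} (ha : Kelt θ F R a)
    (hb : Kelt θ F R b) : a * b = b * a := by
  refine autFun_ext fun x hx => ?_
  have h1 := d.kelt_fix_Z hR ha hx
  have h2 := d.kelt_fix_Z hR hb hx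
  have hfix : ∀ c ∈ F.autGroup R, ∀ z ∈ Z, autFun c z = z := fun c hc z hz =>
    d.fix ((mem_autGroup_iff hR).1 hc) hz (hZ hz)
  rw [autFun_mul _ _ hx, autFun_mul _ _ hx]
  have e1 : autFun a (autFun b x) = autFun a x * (x⁻¹ * autFun b x) := by
    conv_lhs => rw [show autFun b x = x * (x⁻¹ * autFun b x) by group]
    rw [autFun_map_mul a hx (hZ h2), hfix a ha.1 _ h2]
  have e2 : autFun b (autFun a x) = autFun b x * (x⁻¹ * autFun a x) := by
    conv_lhs => rw [show autFun a x = x * (x⁻¹ * autFun a x) by group]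
    rw [autFun_map_mul b hx (hZ h1), hfix b hb.1 _ h1]
  rw [e1, e2, show autFun a x * (x⁻¹ * autFun b x) = x * ((x⁻¹ * autFun a x) * (x⁻¹ * autFun b x))
    by group, show autFun b x * (x⁻¹ * autFun a x) = x * ((x⁻¹ * autFun b x) * (x⁻¹ * autFun a x))
    by group, d.Z_comm h2 (d.Z_le h1)]

/-- At a fully normalized subgroup the kernel is induced by elements of `S`. -/
theorem kelt_conjAut (hR : R ≤ S) (hZ : Z ≤ R) (hn : F.IsFullyNormalized R) {k : MulAut R}
    (hk : Kelt θ F R k) : ∃ x ∈ normalizerIn S R, (∀ y ∈ R, autFun k y = x * y * x⁻¹) ∧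
      ext1 θ x ∈ Subgroup.centralizer (imgι θ R : Set Ω') := by
  haveI := finite_of_le hR
  haveI := finite_mulAut (P := R)
  let K : Subgroup (F.autGroup R) :=
    { carrier := {a | ∀ x ∈ R, ext1 θ (autFun (a : MulAut R) x) = ext1 θ x}
      one_mem' := (d.kelt_one hR).2
      mul_mem' := fun {a b} ha hb => (d.kelt_mul ⟨a.2, ha⟩ ⟨b.2, hb⟩).2
      inv_mem' := fun {a} ha => (d.kelt_inv ⟨a.2, ha⟩).2 }
  haveI : K.Normal := ⟨fun a ha x => (d.kelt_conj hR ⟨a.2, ha⟩ x.2).2⟩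
  have hKp : IsPGroup p K := by
    obtain ⟨m, hm⟩ := IsPGroup.iff_card.1 d.isPGroup
    intro a
    refine ⟨m, Subtype.ext (Subtype.ext (autFun_ext fun y hy => ?_))⟩
    simp only [Subgroup.coe_pow, Subgroup.coe_one]
    rw [autFun_one hy]
    exact pow_fix_step hR hm le_rfl hZ
      (fun z hz => d.fix ((mem_autGroup_iff hR).1 (a : F.autGroup R).2) hz (hZ hz))
      (fun z hz => d.kelt_fix_Z hR ⟨(a : F.autGroup R).2, a.2⟩ hz) y hy
  obtain ⟨-, Rs, hRs⟩ := (IsSaturated.automized_receptive d.isPGroup d.sat hn).1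
  have h1 : (⟨k, hk.1⟩ : F.autGroup R) ∈ (Rs : Subgroup (F.autGroup R)) :=
    ConstrainedNormalSub.pCore_le Rs (CfsgLib.Coprime.le_pCore hKp (show _ ∈ K from hk.2))
  rw [hRs, Subgroup.mem_subgroupOf] at h1
  obtain ⟨x, hx, hxe⟩ := mem_autInducedBy_iff.1 h1
  refine ⟨x, ⟨hx, mem_normalizer_of_autFun hxe⟩, hxe, Subgroup.mem_centralizer_iff.2 fun y hy => ?_⟩
  obtain ⟨z, hz, rfl⟩ := (mem_imgι hR).1 hy
  have h2 : ext1 θ (autFun k z) = ext1 θ x * ext1 θ z * (ext1 θ x)⁻¹ := by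
    rw [hxe z hz, ext1_conj θ hx (hR hz)]
  rw [hk.2 z hz] at h2
  calc ext1 θ z * ext1 θ x = ext1 θ x * ext1 θ z * (ext1 θ x)⁻¹ * ext1 θ x := by rw [← h2]
    _ = ext1 θ x * ext1 θ z := by rw [inv_mul_cancel_right]

theorem kelt_of_centralize (hR : R ≤ S) {x : Ω} (hx : x ∈ normalizerIn S R)
    (hxc : ext1 θ x ∈ Subgroup.centralizer (imgι θ R : Set Ω')) :
    Kelt θ F R (conjAut x hx.2) :=
  ⟨autInducedBy_le_autGroup hR (conjAut_mem hx.1 hx.2), fun y hy => by
    rw [autFun_conjAut hx.2 hy, ext1_conj θ hx.1 (hR hy),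
      ← Subgroup.mem_centralizer_iff.1 hxc _ (ext1_mem_imgι hR hy), mul_inv_cancel_right]⟩

theorem mem_normalizer' (hR : R ≤ S) {s : Ω} (hs : s ∈ normalizerIn S R) :
    ext1 θ s ∈ normalizerIn S' (imgι θ R) := by
  refine ⟨d.range.le (ext1_mem_range θ s), mem_normalizer_of_autFun (α := ?_) ?_⟩
  · exact MulEquiv.ofBijective
      (MonoidHom.mk' (fun y : imgι θ R => (⟨ext1 θ s * y * (ext1 θ s)⁻¹, by
        obtain ⟨z, hz, hze⟩ := (mem_imgι hR).1 y.2
        rw [← hze, ← ext1_conj θ hs.1 (hR hz)]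
        exact ext1_mem_imgι hR ((Subgroup.mem_normalizer_iff.1 hs.2 z).1 hz)⟩ : imgι θ R))
        fun y w => Subtype.ext (by simp [mul_assoc]))
      (by
        haveI := d.finite_S'
        haveI : Finite (imgι θ R) := finite_of_le ((imgι_le_range R).trans d.range.le)
        exact Finite.injective_iff_bijective.1 fun y w h => Subtype.ext
          (mul_left_cancel (mul_right_cancel (congrArg Subtype.val h : _))))
  · intro y hy
    exact autFun_apply _ hy

/-- The image of a fully normalized preimage is fully normalized. -/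
theorem fullyNormalized' (hR : R ≤ S) (hZ : Z ≤ R) (hn : F.IsFullyNormalized R) :
    F'.IsFullyNormalized (imgι θ R) := by
  haveI := d.finite_S'
  refine ⟨(imgι_le_range R).trans d.range.le, fun Q' hQ' => ?_⟩
  obtain ⟨f', hf', hf'i⟩ := isConj_iff.1 (isConj_symm hQ')
  have hQ'S : Q' ≤ S' := hf'.le
  obtain ⟨f, hf, hfe⟩ := exists_lift_map d.surj hf'
  have himg : img (preimageAlong θ Q') f = R := by
    have hfm : ∀ x ∈ preimageAlong θ Q', f x ∈ R := fun x hx => by
      refine d.mem_of_ext1 hR hZ (hf.mem_S hx) ?_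
      rw [hfe x hx, ← hf'i]
      exact hf'.mem_img.2 ⟨_, (mem_preimageAlong.1 hx).2, rfl⟩
    refine le_antisymm (hf.img_le_of_forall hfm) fun y hy => ?_
    obtain ⟨z', hz', hze⟩ := hf'.mem_img.1 (hf'i.ge (ext1_mem_imgι hR hy))
    obtain ⟨z, hz, rfl⟩ := exists_preimage (α := θ) (hQ'S.trans d.range.ge) hz'
    have h1 : (f z)⁻¹ * y ∈ Z := d.inv_mul_mem (hf.mem_S hz) (hR hy) (by rw [hfe z hz, hze])
    have h2 := d.Z_le_preimage Q' h1
    rw [show y = f z * ((f z)⁻¹ * y) by group, ← d.fix hf h1 h2, ← hf.map_mul hz h2]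
    exact hf.mem_img.2 ⟨_, mul_mem hz h2, rfl⟩
  obtain ⟨h₁, h₂⟩ := IsSaturated.automized_receptive d.isPGroup d.sat hn
  obtain ⟨g, hg, -, hgN⟩ := exists_map_normalizer d.isPGroup h₁ h₂ (isConj_iff.2 ⟨f, hf, himg⟩)
  obtain ⟨g', hg', hge⟩ := exists_image_map d.surj hg
  have hle : normalizerIn S' Q' ≤ imgι θ (normalizerIn S (preimageAlong θ Q')) := by
    intro y hy
    obtain ⟨x, hx, rfl⟩ := exists_preimage (α := θ) (P' := S') d.range.ge hy.1
    have hxS := preimageAlong_le θ S' hx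
    refine (mem_imgι inf_le_left).2 ⟨x, ⟨hxS, Subgroup.mem_normalizer_iff.2 fun z => ?_⟩, rfl⟩
    constructor
    · intro hz
      have hzS := preimageAlong_le θ Q' hz
      refine mem_preimageAlong.2 ⟨mul_mem (mul_mem hxS hzS) (inv_mem hxS), ?_⟩
      rw [ext1_conj θ hxS hzS]
      exact (Subgroup.mem_normalizer_iff.1 hy.2 _).1 (mem_preimageAlong.1 hz).2
    · intro hz
      have hzS : z ∈ S := by
        have := mul_mem (mul_mem (inv_mem hxS) (preimageAlong_le θ Q' hz)) hxS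
        simpa [mul_assoc] using this
      refine mem_preimageAlong.2 ⟨hzS, ?_⟩
      have h := (mem_preimageAlong.1 hz).2
      rw [ext1_conj θ hxS hzS] at h
      exact (Subgroup.mem_normalizer_iff.1 hy.2 _).2 h
  have hg'' := hg'.mono hle
  rw [← hg''.card_img]
  refine card_le_of_le' (Q := normalizerIn S' (imgι θ R)) inf_le_left ?_
  intro y hy
  obtain ⟨w, hw, rfl⟩ := hg''.mem_img.1 hy
  obtain ⟨x, hx, rfl⟩ := (mem_imgι inf_le_left).1 (hle hw)
  rw [hge x hx]
  exact d.mem_normalizer' hR (hgN x hx)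

theorem fullyNormalizedE (hR : R ≤ preimageAlong θ T') (hZ : Z ≤ R)
    (hn : F.IsFullyNormalized R) : E'.IsFullyNormalized (imgι θ R) := by
  haveI := d.finite_S'
  exact isFullyNormalized_of_stronglyClosed d.isPGroup' d.satF d.T'_closed d.invE.1
    (d.imgι_le_T' hR) (d.fullyNormalized' (d.le_S hR) hZ hn)

/-- A conjugation lying over `E'` is a conjugation by an element of `T` times a kernel element. -/
theorem exists_conj_mul_kelt (hR : R ≤ preimageAlong θ T') (hZ : Z ≤ R)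
    (hn : F.IsFullyNormalized R) {s : Ω} (hs : s ∈ normalizerIn S R)
    (ha : Over θ E' R (fun x => s * x * s⁻¹)) :
    ∃ t ∈ normalizerIn (preimageAlong θ T') R,
      ext1 θ (t⁻¹ * s) ∈ Subgroup.centralizer (imgι θ R : Set Ω') := by
  haveI := d.finite_S'
  haveI := d.finite_T'
  have hRS := d.le_S hR
  set R' := imgι θ R with hR'd
  have hR'T : R' ≤ T' := d.imgι_le_T' hR
  haveI : Finite R' := finite_of_le hR'T
  haveI := finite_mulAut (P := R')
  set A := autInducedBy T' R' with hA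
  set B := autInducedBy S' R' ⊓ E'.autGroup R' with hB
  have hAB : A ≤ B := le_inf (autInducedBy_mono d.T'_le) (autInducedBy_le_autGroup hR'T)
  have hBp : IsPGroup p B := (isPGroup_autInducedBy d.isPGroup').to_le inf_le_left
  obtain ⟨-, hi⟩ := (isFullyAutomized_iff d.isPGroupT).1
    (IsSaturated.automized_receptive d.isPGroupT d.satE (d.fullyNormalizedE hR hZ hn)).1
  obtain ⟨δ, -, hδ⟩ := exists_conj_le_of_not_dvd_relIndex (isPGroup_autInducedBy d.isPGroupT)
    (autInducedBy_le_autGroup hR'T) hi hBp inf_le_right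
  have hBA : B = A := by
    refine (Subgroup.eq_of_le_of_card_ge hAB ?_).symm
    rw [← card_conjBy δ B]
    exact Subgroup.card_le_of_le hδ
  have hs' := d.mem_normalizer' hRS hs
  have hsB : conjAut (ext1 θ s) hs'.2 ∈ B := by
    refine ⟨conjAut_mem hs'.1 hs'.2, ?_⟩
    obtain ⟨e, he, hi'⟩ := ha
    refine (mem_autGroup_iff hR'T).2 (he.congr fun y hy => ?_)
    obtain ⟨x, hx, rfl⟩ := (mem_imgι hRS).1 hy
    rw [autFun_conjAut hs'.2 hy, ← hi' x hx, ext1_conj θ hs.1 (hRS hx)]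
  rw [hBA] at hsB
  obtain ⟨t', ht', hte⟩ := mem_autInducedBy_iff.1 hsB
  obtain ⟨t, ht, rfl⟩ := exists_preimage (α := θ) (d.T'_le.trans d.range.ge) ht'
  have htS := preimageAlong_le θ T' ht
  have hconj : ∀ x ∈ R, ext1 θ (t * x * t⁻¹) = ext1 θ (s * x * s⁻¹) := fun x hx => by
    have h1 := hte _ (ext1_mem_imgι hRS hx)
    rw [autFun_conjAut hs'.2 (ext1_mem_imgι hRS hx)] at h1
    rw [ext1_conj θ htS (hRS hx), ext1_conj θ hs.1 (hRS hx), h1]
  have htN : t ∈ Subgroup.normalizer (R : Set Ω) := by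
    refine conjBy_eq_iff.1 (eq_of_le_of_card_le hRS (conjBy_le_iff.2 fun x hx => ?_)
      (card_conjBy t R).ge)
    refine d.mem_of_ext1 hRS hZ (mul_mem (mul_mem htS (hRS hx)) (inv_mem htS)) ?_
    rw [hconj x hx]
    exact ext1_mem_imgι hRS ((Subgroup.mem_normalizer_iff.1 hs.2 x).1 hx)
  refine ⟨t, ⟨ht, htN⟩, Subgroup.mem_centralizer_iff.2 fun y hy => ?_⟩
  obtain ⟨x, hx, rfl⟩ := (mem_imgι hRS).1 hy
  have h1 := hconj x hx
  rw [ext1_conj θ htS (hRS hx), ext1_conj θ hs.1 (hRS hx)] at h1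
  rw [ext1_mul θ (inv_mem htS) hs.1, ext1_inv θ htS]
  calc ext1 θ x * ((ext1 θ t)⁻¹ * ext1 θ s)
      = (ext1 θ t)⁻¹ * (ext1 θ t * ext1 θ x * (ext1 θ t)⁻¹) * ext1 θ s := by group
    _ = (ext1 θ t)⁻¹ * (ext1 θ s * ext1 θ x * (ext1 θ s)⁻¹) * ext1 θ s := by rw [h1]
    _ = (ext1 θ t)⁻¹ * ext1 θ s * ext1 θ x := by group

end LiftData

end CfsgLib.Fusion.CentralLift
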