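import Cfsg.Agent.Lib.Fusion.System.CentralLift.Setup
import Cfsg.Agent.Lib.Fusion.System.ExtensionLift
import Cfsg.Agent.Lib.Fusion.System.Functor

/-!
# Lifting the maps of the normal subsystem
-/

set_option autoImplicit false
set_option linter.style.haveILetI false
set_option linter.unusedSectionVars false

open Subgroup
open scoped Classical

namespace CfsgLib.Fusion.CentralLift

open Cfsg (FusionSystem autInducedBy)
open Cfsg.FusionSystem (normalizerIn centralizerIn preimageAlong)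
open CfsgLib.Fusion
open CfsgLib.Fusion.ExtLift (exists_exponent pow_eq_self)

universe u v

variable {Ω : Type u} [Group Ω] {Ω' : Type v} [Group Ω'] {S Z : Subgroup Ω} {S' T' : Subgroup Ω'}
  {F : FusionSystem S} {F' : FusionSystem S'} {E' : FusionSystem T'} {θ : S →* Ω'} {p : ℕ}
  [Finite S] [Fact p.Prime] {P Q R : Subgroup Ω} {f g : Ω → Ω} {e : Ω' → Ω'}

theorem Ind.pow (hR : R ≤ S) {a : MulAut R} {a' : MulAut (imgι θ R)}
    (h : Ind θ R (autFun a) (autFun a')) :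
    ∀ n : ℕ, Ind θ R (autFun (a ^ n)) (autFun (a' ^ n))
  | 0 => fun x hx => by
    rw [pow_zero, pow_zero, autFun_one hx, autFun_one (ext1_mem_imgι hR hx)]
  | n + 1 => fun x hx => by
    rw [pow_succ', pow_succ', autFun_mul _ _ hx, autFun_mul _ _ (ext1_mem_imgι hR hx),
      h _ (autFun_mem _ hx), Ind.pow hR h n x hx]

namespace LiftData

variable (d : LiftData F Z θ F' E' p)
include d

theorem le_S (hR : R ≤ preimageAlong θ T') : R ≤ S := hR.trans (preimageAlong_le θ T')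

/-- The automorphisms lying over `E'` form a normal subgroup. -/
theorem over1_conj (hR : R ≤ preimageAlong θ T') {a x : MulAut R} (ha : Over1 θ F E' R a)
    (hx : x ∈ F.autGroup R) : Over1 θ F E' R (x * a * x⁻¹) := by
  refine ⟨mul_mem (mul_mem hx ha.1) (inv_mem hx), ?_⟩
  obtain ⟨e, he, hi⟩ := ha.2
  have hRS := d.le_S hR
  have hxm := (mem_autGroup_iff hRS).1 hx
  obtain ⟨x', hx', hxe⟩ := exists_image_map d.surj hxm
  have hem : ∀ y ∈ imgι θ R, e y ∈ imgι θ R := fun y hy => by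
    obtain ⟨z, hz, rfl⟩ := (mem_imgι hRS).1 hy
    rw [← hi z hz]
    exact ext1_mem_imgι hRS (autFun_mem a hz)
  obtain ⟨h, hh, hhe⟩ := d.strongInv _ _ e x' le_rfl (d.imgι_le_T' hR) he hem hx'
  have himg : img (imgι θ R) x' = imgι θ R := by
    ext y
    rw [hx'.mem_img]
    constructor
    · rintro ⟨z, hz, rfl⟩
      obtain ⟨w, hw, rfl⟩ := (mem_imgι hRS).1 hz
      rw [hxe w hw]
      exact ext1_mem_imgι hRS (autFun_mem x hw)
    · intro hy
      obtain ⟨w, hw, rfl⟩ := (mem_imgι hRS).1 hy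
      refine ⟨_, ext1_mem_imgι hRS (autFun_mem x⁻¹ hw), ?_⟩
      rw [hxe _ (autFun_mem x⁻¹ hw), PPrime.autFun_symm' hw]
  rw [himg] at hh
  refine ⟨h, hh, fun y hy => ?_⟩
  have hy' := autFun_mem x⁻¹ hy
  rw [autFun_mul _ _ hy, autFun_mul _ _ hy', ← hxe _ (autFun_mem a hy'), hi _ hy',
    ← hhe _ (ext1_mem_imgι hRS hy'), hxe _ hy', PPrime.autFun_symm' hy]

theorem exists_lift_auto (hR : R ≤ preimageAlong θ T') (hZ : Z ≤ R) {a' : MulAut (imgι θ R)}
    (ha' : a' ∈ E'.autGroup (imgι θ R)) :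
    ∃ a : MulAut R, Over1 θ F E' R a ∧ Ind θ R (autFun a) (autFun a') := by
  have hRS := d.le_S hR
  have hm' := (mem_autGroup_iff (d.imgι_le_T' hR)).1 ha'
  obtain ⟨f, hf, hfe⟩ := exists_lift_map d.surj (d.isMap_sub hm')
  rw [d.preimage_imgι hRS hZ] at hf hfe
  have himg : img R f = R := img_eq_of_map_le hRS hf le_rfl fun x hx =>
    d.mem_of_ext1 hRS hZ (hf.mem_S hx) (by
      rw [hfe x hx]; exact autFun_mem a' (ext1_mem_imgι hRS hx))
  have hi : Ind θ R (autFun (autOf hf himg)) (autFun a') := fun x hx => by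
    rw [autFun_autOf hf himg hx, hfe x hx]
  exact ⟨autOf hf himg, ⟨autOf_mem hf himg, _, hm', hi⟩, hi⟩

theorem exists_lift_coprime (hR : R ≤ preimageAlong θ T') (hZ : Z ≤ R) {a' : MulAut (imgι θ R)}
    (ha' : a' ∈ E'.autGroup (imgι θ R)) (hco : (orderOf a').Coprime p) :
    ∃ a : MulAut R, Over1 θ F E' R a ∧ (orderOf a).Coprime p ∧
      Ind θ R (autFun a) (autFun a') := by
  obtain ⟨a, ha, hi⟩ := d.exists_lift_auto hR hZ ha'
  haveI := finite_of_le (d.le_S hR)
  haveI := finite_mulAut (P := R)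
  obtain ⟨q, M, i, hn, hq, -, hiM, hMq, -⟩ :=
    exists_exponent (p := p) (orderOf a) (orderOf_pos a).ne' 0
  refine ⟨a ^ M, d.over1_pow hR ha M, Nat.Coprime.coprime_dvd_left ?_
    ((Fact.out : p.Prime).coprime_iff_not_dvd.2 hq).symm, ?_⟩
  · apply orderOf_dvd_of_pow_eq_one
    rw [← pow_mul, ← orderOf_dvd_iff_pow_eq_one, hn]
    exact Nat.mul_dvd_mul hiM dvd_rfl
  · have h := hi.pow (d.le_S hR) M
    have hdvd : orderOf a' ∣ q := by
      refine (hco.pow_right i).dvd_of_dvd_mul_left ?_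
      rw [← hn]
      apply orderOf_dvd_of_pow_eq_one
      refine autFun_ext fun y hy => ?_
      obtain ⟨x, hx, rfl⟩ := (mem_imgι (d.le_S hR)).1 hy
      rw [autFun_one (ext1_mem_imgι (d.le_S hR) hx), ← hi.pow (d.le_S hR) (orderOf a) x hx,
        pow_orderOf_eq_one, autFun_one hx]
    have hM : a' ^ M = a' := by
      refine pow_eq_self ?_
      exact Nat.ModEq.of_dvd hdvd hMq
    rwa [hM] at h

theorem over1_gmap (hZ : Z ≤ R) (hR : R ≤ preimageAlong θ T')
    (hc : E'.IsCentric (imgι θ R)) {β : MulAut R} (hβ : Over1 θ F E' R β)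
    (hk : (orderOf β).Coprime p) : GMap F Z θ E' p R (autFun β) :=
  GMap.base hZ hR hc le_rfl hβ hk

/-- Automorphisms of centric subgroups lift to maps of the lifted system. -/
theorem exists_gmap_lift_auto (hZ : Z ≤ R) (hR : R ≤ preimageAlong θ T')
    (hc : E'.IsCentric (imgι θ R)) (hn : E'.IsFullyNormalized (imgι θ R))
    {a' : MulAut (imgι θ R)} (ha' : a' ∈ E'.autGroup (imgι θ R)) :
    ∃ f, GMap F Z θ E' p R f ∧ Ind θ R f (autFun a') := by
  haveI := d.finite_T'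
  have hRS := d.le_S hR
  obtain ⟨g, hg, β, hβ, he⟩ := exists_conj_mul_residual
    (IsSaturated.automized_receptive d.isPGroupT d.satE hn).1 ⟨a', ha'⟩
  have hres : ∃ f, GMap F Z θ E' p R f ∧ Ind θ R f (autFun (β : MulAut (imgι θ R))) := by
    unfold Cfsg.pResidual at hβ
    clear he
    induction hβ using Subgroup.closure_induction with
    | mem b hb =>
      obtain ⟨a, ha, hk, hi⟩ := d.exists_lift_coprime hR hZ b.2
        ((Subgroup.orderOf_coe b).symm ▸ hb)
      exact ⟨_, d.over1_gmap hZ hR hc ha hk, hi⟩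
    | one =>
      refine ⟨id, GMap.id_map hR, fun x hx => ?_⟩
      rw [Subgroup.coe_one, autFun_one (ext1_mem_imgι hRS hx)]
      rfl
    | mul b c _ _ hb hc =>
      obtain ⟨f₁, hf₁, hi₁⟩ := hb
      obtain ⟨f₂, hf₂, hi₂⟩ := hc
      have hm₂ : ∀ x ∈ R, f₂ x ∈ R := fun x hx =>
        d.mem_of_ext1 hRS hZ ((d.gmap_isMap hf₂).1.mem_S hx)
          (by rw [hi₂ x hx]; exact autFun_mem _ (ext1_mem_imgι hRS hx))
      refine ⟨f₁ ∘ f₂, hf₂.comp hf₁ hm₂, fun x hx => ?_⟩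
      rw [Subgroup.coe_mul, autFun_mul _ _ (ext1_mem_imgι hRS hx), ← hi₂ x hx]
      exact hi₁ _ (hm₂ x hx)
    | inv b _ hb =>
      obtain ⟨f, hf, hi⟩ := hb
      have hm := (d.gmap_isMap hf).1
      have himg : img R f = R := img_eq_of_map_le hRS hm le_rfl fun x hx =>
        d.mem_of_ext1 hRS hZ (hm.mem_S hx)
          (by rw [hi x hx]; exact autFun_mem _ (ext1_mem_imgι hRS hx))
      obtain ⟨f', -, hf'1, -⟩ := hm.exists_inv
      have h := d.gmap_inv hf f' hf'1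
      rw [himg] at h
      refine ⟨f', h, fun y hy => ?_⟩
      obtain ⟨x, hx, rfl⟩ := hm.mem_img.1 (himg.ge hy)
      rw [hf'1 x hx, hi x hx, Subgroup.coe_inv, PPrime.autFun_symm (ext1_mem_imgι hRS hx)]
  obtain ⟨f, hf, hi⟩ := hres
  obtain ⟨t, ht, rfl⟩ := exists_preimage (α := θ) (d.T'_le.trans d.range.ge) hg.1
  have hfm : ∀ x ∈ R, f x ∈ preimageAlong θ T' := (d.gmap_isMap hf).2.2.2
  have hfS : img R f ≤ preimageAlong θ T' := fun y hy => by
    obtain ⟨x, hx, rfl⟩ := (d.gmap_isMap hf).1.mem_img.1 hy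
    exact hfm x hx
  refine ⟨_, hf.comp (GMap.conj hfS ht) fun x hx => (d.gmap_isMap hf).1.mem_img.2 ⟨x, hx, rfl⟩,
    fun x hx => ?_⟩
  show ext1 θ (t * f x * t⁻¹) = _
  rw [ext1_conj θ (preimageAlong_le θ T' ht) (preimageAlong_le θ T' (hfm x hx)), hi x hx]
  exact (he _ (ext1_mem_imgι hRS hx)).symm

/-- Every map of `E'` lifts. -/
theorem exists_gmap_lift (hP : P ≤ preimageAlong θ T') (he : IsMap E' (imgι θ P) e) :
    ∃ f, GMap F Z θ E' p P f ∧ Ind θ P f e := by
  haveI := d.finite_T'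
  have hTS := preimageAlong_le θ T'
  have hpre : ∀ {P' : Subgroup Ω'}, P' ≤ T' → preimageAlong θ P' ≤ preimageAlong θ T' :=
    fun h => preimageAlong_mono h
  let M : Subgroup Ω' → (Ω' → Ω') → Prop := fun P' e => IsMap E' P' e ∧
    ∃ f, GMap F Z θ E' p (preimageAlong θ P') f ∧ Ind θ (preimageAlong θ P') f e
  let E₂ : FusionSystem T' := mkSystem E' T' M
    (fun _ _ h => ⟨h.1, h.1.le, fun _ hx => h.1.mem_S hx⟩)
    (fun P' a b h hb => ⟨h.1.congr hb, h.2.imp fun f hf => ⟨hf.1, fun x hx => by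
      rw [hf.2 x hx, hb _ (mem_preimageAlong.1 hx).2]⟩⟩)
    (fun P' t hP' ht => by
      obtain ⟨s, hs, rfl⟩ := exists_preimage (α := θ) (d.T'_le.trans d.range.ge) ht
      exact ⟨isMap_conj hP' ht, _, GMap.conj (hpre hP') hs, fun x hx =>
        ext1_conj θ (hTS hs) (preimageAlong_le θ P' hx)⟩)
    (fun P' Q' a b ⟨ha, f, hf, hfi⟩ ⟨hb, g, hg, hgi⟩ hm => by
      have hfm : ∀ x ∈ preimageAlong θ P', f x ∈ preimageAlong θ Q' := fun x hx =>
        mem_preimageAlong.2 ⟨(d.gmap_isMap hf).1.mem_S hx,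
          by rw [hfi x hx]; exact hm _ (mem_preimageAlong.1 hx).2⟩
      refine ⟨ha.comp hb hm, g ∘ f, hf.comp hg hfm, fun x hx => ?_⟩
      show ext1 θ (g (f x)) = b (a (ext1 θ x))
      rw [hgi _ (hfm x hx), hfi x hx])
    (fun P' a a' ⟨ha, f, hf, hfi⟩ ha' hinv => by
      have hm := (d.gmap_isMap hf).1
      obtain ⟨f', -, hf'1, -⟩ := hm.exists_inv
      have hP'S : P' ≤ S' := ha.le.trans d.T'_le
      have himg : img (preimageAlong θ P') f = preimageAlong θ (img P' a) := by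
        have h1 := d.imgι_img_eq hm (by rwa [d.imgι_preimage hP'S]) hfi
        rw [d.imgι_preimage hP'S] at h1
        rw [← h1, d.preimage_imgι hm.img_le]
        exact fun z hz => hm.mem_img.2
          ⟨z, d.Z_le_preimage P' hz, d.fix hm hz (d.Z_le_preimage P' hz)⟩
      refine ⟨ha', f', himg ▸ d.gmap_inv hf f' hf'1, fun y hy => ?_⟩
      rw [← himg] at hy
      obtain ⟨x, hx, rfl⟩ := hm.mem_img.1 hy
      rw [hf'1 x hx, hfi x hx, hinv _ (mem_preimageAlong.1 hx).2])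
  have hkey : IsMap E₂ (imgι θ P) e := by
    refine isMap_of_autGroup_le d.isPGroupT d.satE (fun R' hR' a' ha' => ?_) he
    have hRT : R' ≤ T' := hR'.elim (fun h => h.le) (fun h => h.1.1)
    have hc : E'.IsCentric R' := hR'.elim (fun h => h ▸ isCentric_self E') (fun h => h.1)
    have hn : E'.IsFullyNormalized R' := hR'.elim (fun h => by subst h; exact isFullyNormalized_self) (fun h => h.2.1)
    have hm := (mem_autGroup_iff hRT).1 ha'
    refine (mem_autGroup_iff hRT).2 ((isMap_mkSystem_iff M).2 ⟨hm, ?_⟩)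
    have hi : imgι θ (preimageAlong θ R') = R' := d.imgι_preimage (hRT.trans d.T'_le)
    obtain ⟨R₀, hR₀⟩ : ∃ R₀, R₀ = preimageAlong θ R' := ⟨_, rfl⟩
    rw [← hR₀] at hi ⊢
    subst hi
    exact d.exists_gmap_lift_auto (hR₀ ▸ d.Z_le_preimage _) (hR₀ ▸ hpre hRT) hc hn ha'
  obtain ⟨-, f, hf, hfi⟩ := (isMap_mkSystem_iff M).1 hkey
  have hle : P ≤ preimageAlong θ (imgι θ P) := fun x hx =>
    mem_preimageAlong.2 ⟨d.le_S hP hx, ext1_mem_imgι (d.le_S hP) hx⟩
  exact ⟨f, hf.mono hle, hfi.mono hle⟩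

end LiftData

end CfsgLib.Fusion.CentralLift
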