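import Cfsg.Agent.Lib.Fusion.System.CentralLift.Normalizer

/-!
# Loops of the lifted maps are inner
-/

set_option autoImplicit false
set_option linter.style.haveILetI false
set_option linter.unusedSectionVars false

open Subgroup
open scoped Classical

namespace CfsgLib.Fusion.CentralLift

open Cfsg (FusionSystem autInducedBy)
open Cfsg.FusionSystem (normalizerIn centralizerIn preimageAlong)
open CfsgLib.Fusion

universe u v

variable {Ω : Type u} [Group Ω] {Ω' : Type v} [Group Ω'] {S Z : Subgroup Ω} {S' T' : Subgroup Ω'}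
  {F : FusionSystem S} {F' : FusionSystem S'} {E' : FusionSystem T'} {θ : S →* Ω'} {p : ℕ}
  [Finite S] [Fact p.Prime] {P Q R P₀ : Subgroup Ω} {f g : Ω → Ω} {e : Ω' → Ω'}

namespace LiftData

variable (d : LiftData F Z θ F' E' p)
include d

theorem gmap_Z_le (hf : GMap F Z θ E' p P f) (hZ : Z ≤ P) : Z ≤ img P f := fun z hz =>
  (d.gmap_isMap hf).1.mem_img.2 ⟨z, hZ hz, d.fix (d.gmap_isMap hf).1 hz (hZ hz)⟩

theorem isConj_img (hf : GMap F Z θ E' p P f) :
    E'.IsConj (imgι θ P) (imgι θ (img P f)) := by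
  obtain ⟨hm, -, ⟨e, he, hi⟩, -⟩ := d.gmap_isMap hf
  exact isConj_iff.2 ⟨e, he, (d.imgι_img_eq hm he hi).symm⟩

theorem img_le_T (hf : GMap F Z θ E' p P f) : img P f ≤ preimageAlong θ T' :=
  (d.gmap_isMap hf).1.img_le_of_forall (d.gmap_isMap hf).2.2.2

/-- Transport of an automorphism of order prime to `p` by a lifted map. -/
theorem gen_transport {ψ ψ' : Ω → Ω} (hψ : GMap F Z θ E' p Q ψ) (hψ' : ∀ x ∈ Q, ψ' (ψ x) = x)
    {β : MulAut Q} (hβ : Over1 θ F E' Q β) (hco : (orderOf β).Coprime p) :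
    Gen F θ E' p (img Q ψ) (ψ ∘ autFun β ∘ ψ') := by
  obtain ⟨hm, hQT, hover, -⟩ := d.gmap_isMap hψ
  have hQS := d.le_S hQT
  have hval : ∀ y ∈ img Q ψ, autFun (MulAut.congr (mapEquiv hm) β) y = ψ (autFun β (ψ' y)) := by
    intro y hy
    obtain ⟨x, hx, rfl⟩ := hm.mem_img.1 hy
    rw [autFun_congr hm β hx, hψ' x hx]
  refine ⟨MulAut.congr (mapEquiv hm) β, Subgroup.subset_closure (Or.inl ⟨⟨?_, ?_⟩, ?_⟩),
    fun y hy => (hval y hy).symm⟩
  · exact (autGroup_congr hm).le (Subgroup.mem_map_of_mem _ hβ.1)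
  · obtain ⟨k, hk, hk1, -⟩ := hm.exists_inv
    have h1 : Over θ E' (img Q ψ) ψ' := d.over_inv hover hm hψ'
    have hψ'm : IsMap F (img Q ψ) ψ' := hk.congr fun y hy => by
      obtain ⟨x, hx, rfl⟩ := hm.mem_img.1 hy
      rw [hk1 x hx, hψ' x hx]
    have hmem : ∀ y ∈ img Q ψ, ψ' y ∈ Q := fun y hy => by
      obtain ⟨x, hx, rfl⟩ := hm.mem_img.1 hy
      rw [hψ' x hx]; exact hx
    have h2 := d.over_comp (d.over_comp h1 hβ.2 hψ'm hmem hQS) hover
      (hψ'm.comp ((mem_autGroup_iff hQS).1 hβ.1) hmem) (fun y hy => autFun_mem β (hmem y hy)) hQS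
    exact h2.congr hval
  · rw [MulEquiv.orderOf_eq]; exact hco

theorem img_eq_of_kelt (hP : P ≤ S) (hZ : Z ≤ P) (hm : IsMap F P f)
    (h : ∀ x ∈ P, ext1 θ (f x) = ext1 θ x) : img P f = P :=
  img_eq_of_map_le hP hm le_rfl fun x hx =>
    d.mem_of_ext1 hP hZ (hm.mem_S hx) (by rw [h x hx]; exact ext1_mem_imgι hP hx)

/-- Loops at fully normalized subgroups are inner. -/
theorem loop_normalized (hP : P₀ ≤ preimageAlong θ T') (hZ : Z ≤ P₀)
    (hc : E'.IsCentric (imgι θ P₀)) (hn : F.IsFullyNormalized P₀)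
    (ih : ∀ V, P₀ < V → V ≤ preimageAlong θ T' → Loop F Z θ E' p V) :
    Loop F Z θ E' p P₀ := by
  haveI := d.finite_T'
  set T := preimageAlong θ T' with hTd
  have hTS : T ≤ S := preimageAlong_le θ T'
  have hPS := d.le_S hP
  have hnE := d.fullyNormalizedE hP hZ hn
  haveI : Finite T := finite_of_le hTS
  haveI : Group.IsNilpotent T := (d.isPGroup.to_le hTS).isNilpotent
  let C : Subgroup Ω → Prop := fun Q => Z ≤ Q ∧ Q ≤ T ∧ E'.IsConj (imgι θ Q) (imgι θ P₀)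
  -- standard maps
  have hex : ∀ Q, C Q → ∃ ψ, GMap F Z θ E' p (normalizerIn T Q) ψ ∧ img Q ψ = P₀ ∧
      (∀ x ∈ normalizerIn T Q, ψ x ∈ normalizerIn T P₀) ∧ (Q = P₀ → ψ = id) := by
    rintro Q ⟨hZQ, hQT, hconj⟩
    by_cases hQ : Q = P₀
    · subst hQ
      exact ⟨id, GMap.id_map inf_le_left, img_id, fun x hx => hx, fun _ => rfl⟩
    have hQN : Q ≤ normalizerIn T Q := le_inf hQT Subgroup.le_normalizer
    have hQS := d.le_S hQT
    obtain ⟨h₁, h₂⟩ := IsSaturated.automized_receptive d.isPGroupT d.satE hnE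
    obtain ⟨e, he, hei, heN⟩ := exists_map_normalizer d.isPGroupT h₁ h₂ hconj
    have hle : imgι θ (normalizerIn T Q) ≤ normalizerIn T' (imgι θ Q) := by
      intro y hy
      obtain ⟨x, hx, rfl⟩ := (mem_imgι (inf_le_left.trans hTS)).1 hy
      exact ⟨(mem_preimageAlong.1 hx.1).2, (d.mem_normalizer' hQS ⟨hTS hx.1, hx.2⟩).2⟩
    obtain ⟨ψ, hψ, hψi⟩ := d.exists_gmap_lift inf_le_left (he.mono hle)
    obtain ⟨hm, -, -, hmT⟩ := d.gmap_isMap hψ
    have himg : img Q ψ = P₀ := by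
      have h1 := d.imgι_img_eq (hm.mono hQN) ((he.mono hle).mono (imgι_mono hQN)) (hψi.mono hQN)
      rw [hei] at h1
      rw [← d.preimage_imgι ((hm.mono hQN).img_le) (d.gmap_Z_le (hψ.mono hQN) hZQ), h1,
        d.preimage_imgι hPS hZ]
    refine ⟨ψ, hψ, himg, fun x hx => ⟨hmT x hx, ?_⟩, fun h => absurd h hQ⟩
    have h2 := (map_mem_normalizerIn hm hQN hx hx.2).2
    rwa [himg] at h2
  choose psi hpsi1 hpsi2 hpsi3 hpsi4 using hex
  let std : Subgroup Ω → Ω → Ω := fun Q => if h : C Q then psi Q h else id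
  have hstd : ∀ Q (h : C Q), std Q = psi Q h := fun Q h => dif_pos h
  have hCimg : ∀ {Q : Subgroup Ω} {f : Ω → Ω}, C Q → GMap F Z θ E' p Q f → C (img Q f) :=
    fun {Q f} hQ hf => ⟨d.gmap_Z_le hf hQ.1, d.img_le_T hf,
      isConj_trans (isConj_symm (d.isConj_img hf)) hQ.2.2⟩
  let Rel : Subgroup Ω → (Ω → Ω) → Prop := fun Q f =>
    ∃ g ∈ genAut F θ E' p P₀, ∀ x ∈ Q, std (img Q f) (f x) = autFun g (std Q x)
  -- steps coming from larger subgroups
  have hstep : ∀ {Q R : Subgroup Ω} {f : Ω → Ω}, C Q → Q < R → R ≤ normalizerIn T Q →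
      GMap F Z θ E' p R f → Rel Q f := by
    intro Q R f hQ hQR hRN hf
    obtain ⟨hfm, -, -, hfT⟩ := d.gmap_isMap hf
    have hQ₂ : C (img Q f) := hCimg hQ (hf.mono hQR.le)
    have hψ := (hpsi1 Q hQ).mono hRN
    obtain ⟨hψm, -, -, -⟩ := d.gmap_isMap hψ
    obtain ⟨ψ', -, hψ'1, hψ'2⟩ := hψm.exists_inv
    have hfN : ∀ x ∈ R, f x ∈ normalizerIn T (img Q f) := fun x hx =>
      ⟨hfT x hx, (map_mem_normalizerIn hfm hQR.le hx (hRN hx).2).2⟩
    have hψ'R : ∀ y ∈ img R (psi Q hQ), ψ' y ∈ R := fun y hy => (hψ'2 y hy).1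
    have hh : GMap F Z θ E' p (img R (psi Q hQ)) (psi _ hQ₂ ∘ (f ∘ ψ')) :=
      ((d.gmap_inv hψ ψ' hψ'1).comp hf hψ'R).comp (hpsi1 _ hQ₂) fun y hy => hfN _ (hψ'R y hy)
    have hW : img R (psi Q hQ) ≤ normalizerIn T P₀ := hψm.img_le_of_forall fun x hx =>
      hpsi3 Q hQ x (hRN hx)
    have hPW : P₀ ≤ img R (psi Q hQ) := (hpsi2 Q hQ).ge.trans (hψm.img_mono hQR.le)
    have hlt : P₀ < img R (psi Q hQ) := lt_of_le_of_ne hPW fun heq => by
      haveI := finite_of_le hψm.le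
      have h1 : Nat.card R ≤ Nat.card Q := by
        rw [← hψm.card_img, ← heq, ← hpsi2 Q hQ, (hψm.mono hQR.le).card_img]
      exact hQR.ne (Subgroup.eq_of_le_of_card_ge hQR.le h1)
    have hhP : img P₀ (psi _ hQ₂ ∘ (f ∘ ψ')) = P₀ := by
      have hhm := ((d.gmap_isMap hh).1).mono hPW
      refine img_eq_of_map_le hPS hhm le_rfl fun y hy => ?_
      obtain ⟨x, hx, rfl⟩ := (hψm.mono hQR.le).mem_img.1 ((hpsi2 Q hQ).ge hy)
      show psi _ hQ₂ (f (ψ' (psi Q hQ x))) ∈ P₀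
      rw [hψ'1 x (hQR.le hx)]
      have hQN₂ : img Q f ≤ normalizerIn T (img Q f) := le_inf hQ₂.2.1 Subgroup.le_normalizer
      exact (hpsi2 _ hQ₂).le (((d.gmap_isMap (hpsi1 _ hQ₂)).1.mono hQN₂).mem_img.2
        ⟨_, (hfm.mono hQR.le).mem_img.2 ⟨x, hx, rfl⟩, rfl⟩)
    obtain ⟨g, hg, hge⟩ := d.gen_of_normalizer hP hZ hc hnE hPW hW hh hhP
      (fun y hy => hpsi3 _ hQ₂ _ (hfN _ (hψ'R y hy))) ih hlt
    refine ⟨g, hg, fun x hx => ?_⟩
    rw [hstd _ hQ₂, hstd _ hQ, ← hge _ ((hpsi2 Q hQ).le ((hψm.mono hQR.le).mem_img.2 ⟨x, hx, rfl⟩))]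
    show psi _ hQ₂ (f x) = psi _ hQ₂ (f (ψ' (psi Q hQ x)))
    rw [hψ'1 x (hQR.le hx)]
  have key : ∀ {P : Subgroup Ω} {f : Ω → Ω}, GMap F Z θ E' p P f →
      ∀ Q, Q ≤ P → C Q → Rel Q f := by
    intro P f hf
    induction hf with
    | @base R P β hZR hR hcR hle hβ hk =>
      intro Q hQP hQ
      have hQR := hQP.trans hle
      by_cases heq : Q = R
      · subst heq
        have himg : img Q (autFun β) = Q := img_autFun β
        obtain ⟨hψm, -, -, -⟩ := d.gmap_isMap ((hpsi1 Q hQ).mono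
          (le_inf hQ.2.1 Subgroup.le_normalizer))
        obtain ⟨ψ', -, hψ'1, -⟩ := hψm.exists_inv
        have h := d.gen_transport ((hpsi1 Q hQ).mono (le_inf hQ.2.1 Subgroup.le_normalizer))
          hψ'1 hβ hk
        rw [hpsi2 Q hQ] at h
        obtain ⟨g, hg, hge⟩ := h
        refine ⟨g, hg, fun x hx => ?_⟩
        rw [himg, hstd _ hQ, ← hge _ ((hpsi2 Q hQ).le (hψm.mem_img.2 ⟨x, hx, rfl⟩))]
        show _ = psi Q hQ (autFun β (ψ' (psi Q hQ x)))
        rw [hψ'1 x hx]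
      · haveI := finite_of_le (d.le_S hR)
        haveI : Group.IsNilpotent R := (d.isPGroup.to_le (d.le_S hR)).isNilpotent
        exact hstep (R := normalizerIn R Q) hQ (lt_inf_normalizer hQR heq)
          (inf_le_inf_right _ hR)
          ((d.over1_gmap hZR hR hcR hβ hk).mono inf_le_left)
    | @conj P t hP' ht =>
      intro Q hQP hQ
      by_cases heq : Q = T
      · subst heq
        have hP0 : P₀ = T := by
          obtain ⟨e, he, hei⟩ := isConj_iff.1 hQ.2.2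
          have h1 : imgι θ T = T' := d.imgι_T
          rw [h1] at he hei
          have h2 : imgι θ P₀ = T' := by
            rw [← hei]
            exact img_eq_of_map_le le_rfl he le_rfl fun y hy => he.mem_S hy
          rw [← d.preimage_imgι hPS hZ, h2]
        have htN : t ∈ normalizerIn T P₀ := by
          rw [hP0]; exact ⟨ht, Subgroup.le_normalizer ht⟩
        have himg : img T (fun x => t * x * t⁻¹) = T :=
          img_eq_of_map_le hTS (isMap_conj (F := F) hTS (hTS ht)) le_rfl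
            fun x hx => mul_mem (mul_mem ht hx) (inv_mem ht)
        refine ⟨_, Subgroup.subset_closure (Or.inr (conjAut_mem htN.1 htN.2)), fun x hx => ?_⟩
        rw [himg, hstd _ hQ, hpsi4 _ hQ hP0.symm]
        exact (autFun_conjAut htN.2 (hP0.symm ▸ hx : x ∈ P₀)).symm
      · exact hstep (R := normalizerIn T Q) hQ (lt_inf_normalizer hQ.2.1 heq) le_rfl
          (GMap.conj inf_le_left ht)
    | @comp P R f₁ g₁ h1 h2 hm ih1 ih2 =>
      intro Q hQP hQ
      have hm1 := (d.gmap_isMap h1).1.mono hQP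
      have hQ2 := hCimg hQ (h1.mono hQP)
      obtain ⟨a, ha, hae⟩ := ih1 Q hQP hQ
      obtain ⟨b, hb, hbe⟩ := ih2 (img Q f₁)
        (hm1.img_le_of_forall fun x hx => hm x (hQP hx)) hQ2
      refine ⟨b * a, mul_mem hb ha, fun x hx => ?_⟩
      have hfx : f₁ x ∈ img Q f₁ := hm1.mem_img.2 ⟨x, hx, rfl⟩
      have hsx : std Q x ∈ P₀ := by
        rw [hstd _ hQ]
        exact (hpsi2 Q hQ).le (((d.gmap_isMap (hpsi1 Q hQ)).1.mono
          (le_inf hQ.2.1 Subgroup.le_normalizer)).mem_img.2 ⟨x, hx, rfl⟩)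
      show std (img Q (g₁ ∘ f₁)) (g₁ (f₁ x)) = _
      rw [← img_img hm1, hbe _ hfx, hae x hx, autFun_mul _ _ hsx]
    | @congr P f₁ g₁ h1 he ih1 =>
      intro Q hQP hQ
      obtain ⟨a, ha, hae⟩ := ih1 Q hQP hQ
      refine ⟨a, ha, fun x hx => ?_⟩
      rw [IsMap.img_congr (g := f₁) fun y hy => he y (hQP hy), he x (hQP hx), hae x hx]
  intro f hf hfk
  have hC₀ : C P₀ := ⟨hZ, hP, isConj_refl (d.imgι_le_T' hP)⟩
  obtain ⟨g, hg, hge⟩ := key hf P₀ le_rfl hC₀
  have hfm := (d.gmap_isMap hf).1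
  rw [d.img_eq_of_kelt hPS hZ hfm hfk, hstd _ hC₀, hpsi4 _ hC₀ rfl] at hge
  have himg := d.img_eq_of_kelt hPS hZ hfm hfk
  have hk : Kelt θ F P₀ g := ⟨(mem_autGroup_iff hPS).2 (hfm.congr fun x hx => (hge x hx).symm),
    fun x hx => by
      have h := hge x hx
      simp only [id] at h
      rw [← h]; exact hfk x hx⟩
  obtain ⟨r, hr, hre⟩ := mem_autInducedBy_iff.1 (d.inner_of_genAut hP hZ hc hn ih hg hk)
  exact ⟨r, hr, fun x hx => (hge x hx).trans (hre x hx)⟩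

end LiftData

end CfsgLib.Fusion.CentralLift
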