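import Cfsg.Agent.Lib.Fusion.System.CentralLift.Loops
import Cfsg.Agent.Lib.Fusion.System.PPrimeResidualNormal
import Cfsg.Agent.Lib.Fusion.System.FamilySatCriterion

/-!
# A normal subsystem of a quotient by a central subgroup lifts to a weakly normal subsystem

If `Z` is central in the saturated system `F` over `S` and `E'` over `T'` is normal in `F/Z`, then
`F` has a weakly normal subsystem over the preimage of `T'`.
-/

set_option autoImplicit false
set_option linter.style.haveILetI false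
set_option linter.unusedSectionVars false

open Subgroup
open scoped Classical

namespace CfsgLib.Fusion.CentralLift

open Cfsg (FusionSystem autInducedBy)
open Cfsg.FusionSystem (normalizerIn centralizerIn preimageAlong)
open CfsgLib.Fusion

universe u v

variable {Ω : Type u} [Group Ω] {Ω' : Type v} [Group Ω'] {S Z : Subgroup Ω} {S' T' : Subgroup Ω'}
  {F : FusionSystem S} {F' : FusionSystem S'} {E' : FusionSystem T'} {θ : S →* Ω'} {p : ℕ}
  [Finite S] [Fact p.Prime] {P Q R : Subgroup Ω} {f g : Ω → Ω} {e : Ω' → Ω'}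

namespace LiftData

variable (d : LiftData F Z θ F' E' p)
include d

theorem setup [Finite S'] : PPrimeChar.Setup F' E' p (1 : F'.autGroup T' →* Unit) :=
  ⟨d.isPGroup', d.satF, d.T'_le, d.satE, d.invE, by simp, fun _ _ => by simp⟩

/-- An automorphism of `T` and its image. -/
theorem exists_image_aut {α : MulAut (preimageAlong θ T')}
    (hα : α ∈ F.autGroup (preimageAlong θ T')) :
    ∃ α' : F'.autGroup T', ∀ x ∈ preimageAlong θ T',
      ext1 θ (autFun α x) = autFun (α' : MulAut T') (ext1 θ x) := by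
  haveI := d.finite_S'
  haveI := d.finite_T'
  have hTS := preimageAlong_le θ T'
  obtain ⟨e, he, hee⟩ := exists_image_map d.surj ((mem_autGroup_iff hTS).1 hα)
  rw [d.imgι_T] at he
  have himg : img T' e = T' := img_eq_of_map_le d.T'_le he le_rfl fun y hy => by
    obtain ⟨x, hx, rfl⟩ := exists_preimage (α := θ) (d.T'_le.trans d.range.ge) hy
    rw [hee x hx]
    exact (mem_preimageAlong.1 (autFun_mem α hx)).2
  exact ⟨⟨_, autOf_mem he himg⟩, fun x hx =>
    (hee x hx).symm.trans (autFun_autOf he himg (mem_preimageAlong.1 hx).2).symm⟩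

theorem exists_lift_aut (α' : F'.autGroup T') :
    ∃ α : MulAut (preimageAlong θ T'), α ∈ F.autGroup (preimageAlong θ T') ∧
      ∀ x ∈ preimageAlong θ T', ext1 θ (autFun α x) = autFun (α' : MulAut T') (ext1 θ x) := by
  have hTS := preimageAlong_le θ T'
  obtain ⟨f, hf, hfe⟩ := exists_lift_map d.surj ((mem_autGroup_iff d.T'_le).1 α'.2)
  have himg : img (preimageAlong θ T') f = preimageAlong θ T' :=
    img_eq_of_map_le hTS hf le_rfl fun x hx => mem_preimageAlong.2 ⟨hf.mem_S hx, by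
      rw [hfe x hx]; exact autFun_mem _ (mem_preimageAlong.1 hx).2⟩
  exact ⟨autOf hf himg, autOf_mem hf himg, fun x hx => by
    rw [autFun_autOf hf himg hx, hfe x hx]⟩

/-- The lifted maps are invariant under `Aut_F(T)`. -/
theorem gmap_transport {α : MulAut (preimageAlong θ T')}
    (hα : α ∈ F.autGroup (preimageAlong θ T')) (hf : GMap F Z θ E' p P f) :
    GMap F Z θ E' p (img P (autFun α)) (autFun α ∘ f ∘ autFun α⁻¹) := by
  have hTS := preimageAlong_le θ T'
  have hαm := (mem_autGroup_iff hTS).1 hα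
  haveI := d.finite_S'
  obtain ⟨α', hα'⟩ := d.exists_image_aut hα
  have hsym : ∀ {x : Ω}, x ∈ preimageAlong θ T' → autFun α⁻¹ (autFun α x) = x :=
    fun hx => PPrime.autFun_symm hx
  induction hf with
  | @base R P β hZ hR hc hle hβ hk =>
    have hRS := hR.trans hTS
    have hm := hαm.mono hR
    have hR1 : img R (autFun α) ≤ preimageAlong θ T' :=
      hm.img_le_of_forall fun x hx => autFun_mem α (hR hx)
    have himgι : imgι θ (img R (autFun α)) = img (imgι θ R) (autFun (α' : MulAut T')) := by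
      have h0 : IsMap F' (imgι θ R) (autFun (α' : MulAut T')) :=
        ((mem_autGroup_iff d.T'_le).1 α'.2).mono (d.imgι_le_T' hR)
      ext y
      rw [mem_imgι hm.img_le, h0.mem_img]
      constructor
      · rintro ⟨z, hz, rfl⟩
        obtain ⟨x, hx, rfl⟩ := hm.mem_img.1 hz
        exact ⟨_, ext1_mem_imgι hRS hx, (hα' x (hR hx)).symm⟩
      · rintro ⟨z, hz, rfl⟩
        obtain ⟨x, hx, rfl⟩ := (mem_imgι hRS).1 hz
        exact ⟨_, hm.mem_img.2 ⟨x, hx, rfl⟩, hα' x (hR hx)⟩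
    have hZ1 : Z ≤ img R (autFun α) := fun z hz =>
      hm.mem_img.2 ⟨z, hZ hz, d.fix hm hz (hZ hz)⟩
    have hc1 : E'.IsCentric (imgι θ (img R (autFun α))) := by
      rw [himgι]; exact d.setup.isCentric_img hc α'
    have hval : ∀ x ∈ R, autFun (MulAut.congr (mapEquiv hm) β) (autFun α x) =
        autFun α (autFun β x) := fun x hx => autFun_congr hm β hx
    have hov : Over θ E' (img R (autFun α)) (autFun (MulAut.congr (mapEquiv hm) β)) := by
      obtain ⟨e, he, hi⟩ := hβ.2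
      refine ⟨_, by rw [himgι]; exact d.setup.conj_E α'.2 he, fun y hy => ?_⟩
      obtain ⟨x, hx, rfl⟩ := hm.mem_img.1 hy
      rw [hval x hx, hα' _ (hR (autFun_mem β hx)), hi x hx, hα' x (hR hx)]
      show _ = autFun (α' : MulAut T')
        (e (autFun (α' : MulAut T')⁻¹ (autFun (α' : MulAut T') (ext1 θ x))))
      rw [PPrime.autFun_symm (mem_preimageAlong.1 (hR hx)).2]
    refine (GMap.base (β := MulAut.congr (mapEquiv hm) β) hZ1 hR1 hc1 (hm.img_mono hle)
      ⟨(autGroup_congr hm).le (Subgroup.mem_map_of_mem _ hβ.1), hov⟩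
      (by rwa [MulEquiv.orderOf_eq])).congr fun y hy => ?_
    obtain ⟨x, hx, rfl⟩ := (hm.mono hle).mem_img.1 hy
    show autFun α (autFun β (autFun α⁻¹ (autFun α x))) = _
    rw [hsym (hR (hle hx)), hval x (hle hx)]
  | @conj P t hP ht =>
    refine (GMap.conj (t := autFun α t) ((hαm.mono hP).img_le_of_forall fun x hx =>
      autFun_mem α (hP hx)) (autFun_mem α ht)).congr fun y hy => ?_
    obtain ⟨x, hx, rfl⟩ := (hαm.mono hP).mem_img.1 hy
    show autFun α (t * autFun α⁻¹ (autFun α x) * t⁻¹) = _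
    rw [hsym (hP hx), hαm.map_conj ht (hP hx)]
  | @comp P R a b h1 h2 hm ih1 ih2 =>
    obtain ⟨-, hPT, -, haT⟩ := d.gmap_isMap h1
    have hRT := (d.gmap_isMap h2).2.1
    refine (ih1.comp ih2 fun y hy => ?_).congr fun y hy => ?_
    · obtain ⟨x, hx, rfl⟩ := (hαm.mono hPT).mem_img.1 hy
      show autFun α (a (autFun α⁻¹ (autFun α x))) ∈ _
      rw [hsym (hPT hx)]
      exact (hαm.mono hRT).mem_img.2 ⟨_, hm x hx, rfl⟩
    · obtain ⟨x, hx, rfl⟩ := (hαm.mono hPT).mem_img.1 hy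
      show autFun α (b (a (autFun α⁻¹ (autFun α x)))) =
        autFun α (b (autFun α⁻¹ (autFun α (a (autFun α⁻¹ (autFun α x))))))
      rw [hsym (hPT hx), hsym (haT x hx)]
  | @congr P a b h1 he ih =>
    refine ih.congr fun y hy => ?_
    have hPT := (d.gmap_isMap h1).2.1
    obtain ⟨x, hx, rfl⟩ := (hαm.mono hPT).mem_img.1 hy
    show autFun α (b (autFun α⁻¹ (autFun α x))) = autFun α (a (autFun α⁻¹ (autFun α x)))
    rw [hsym (hPT hx), he x hx]

/-- All loops at centric preimages are inner. -/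
theorem loop_all (hR : R ≤ preimageAlong θ T') (hZ : Z ≤ R) (hc : E'.IsCentric (imgι θ R)) :
    Loop F Z θ E' p R := by
  induction hk : Nat.card S - Nat.card R using Nat.strong_induction_on generalizing R with
  | _ k ih =>
  haveI := d.finite_S'
  have hTS := preimageAlong_le θ T'
  have hRS := d.le_S hR
  obtain ⟨R₁, hR₁, hn⟩ := exists_fullyNormalized (F := F) hRS
  obtain ⟨φ, hφ, rfl⟩ := isConj_iff.1 hR₁
  obtain ⟨φ', hφ', hφe⟩ := exists_image_map d.surj hφ
  obtain ⟨a, e, he, hae⟩ := d.setup.exists_decomp hφ' (d.imgι_le_T' hR)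
  obtain ⟨g, hg, hgi⟩ := d.exists_gmap_lift hR he
  obtain ⟨α, hα, hαi⟩ := d.exists_lift_aut a
  obtain ⟨hgm, -, -, hgT⟩ := d.gmap_isMap hg
  have hαm := (mem_autGroup_iff hTS).1 hα
  have hag : IsMap F R (autFun α ∘ g) := hgm.comp hαm hgT
  have hag' : ∀ x ∈ R, ext1 θ (autFun α (g x)) = ext1 θ (φ x) := fun x hx => by
    rw [hαi _ (hgT x hx), hgi x hx, ← hae _ (ext1_mem_imgι hRS hx), hφe x hx]
  have hR₁eq : img R (autFun α ∘ g) = img R φ := by
    have hz : ∀ {h : Ω → Ω}, IsMap F R h → Z ≤ img R h := fun hh z hz =>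
      hh.mem_img.2 ⟨z, hZ hz, d.fix hh hz (hZ hz)⟩
    rw [← d.preimage_imgι hag.img_le (hz hag), ← d.preimage_imgι hφ.img_le (hz hφ)]
    congr 1
    ext y
    rw [mem_imgι hag.img_le, mem_imgι hφ.img_le]
    constructor
    · rintro ⟨z, hz, rfl⟩
      obtain ⟨x, hx, rfl⟩ := hag.mem_img.1 hz
      exact ⟨_, hφ.mem_img.2 ⟨x, hx, rfl⟩, (hag' x hx).symm⟩
    · rintro ⟨z, hz, rfl⟩
      obtain ⟨x, hx, rfl⟩ := hφ.mem_img.1 hz
      exact ⟨_, hag.mem_img.2 ⟨x, hx, rfl⟩, hag' x hx⟩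
  have hR₁T : img R φ ≤ preimageAlong θ T' := by
    rw [← hR₁eq]
    exact hag.img_le_of_forall fun x hx => autFun_mem α (hgT x hx)
  have hZ₁ : Z ≤ img R φ := fun z hz => hφ.mem_img.2 ⟨z, hZ hz, d.fix hφ hz (hZ hz)⟩
  have hc₁ : E'.IsCentric (imgι θ (img R φ)) := by
    have h1 : imgι θ (img R φ) = img (imgι θ R) φ' := by
      ext y
      rw [mem_imgι hφ.img_le, hφ'.mem_img]
      constructor
      · rintro ⟨z, hz, rfl⟩
        obtain ⟨x, hx, rfl⟩ := hφ.mem_img.1 hz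
        exact ⟨_, ext1_mem_imgι hRS hx, hφe x hx⟩
      · rintro ⟨z, hz, rfl⟩
        obtain ⟨x, hx, rfl⟩ := (mem_imgι hRS).1 hz
        exact ⟨_, hφ.mem_img.2 ⟨x, hx, rfl⟩, (hφe x hx).symm⟩
    rw [h1]
    exact d.setup.isCentric_of_map hc hφ'
  have ih₁ : ∀ V, img R φ < V → V ≤ preimageAlong θ T' → Loop F Z θ E' p V := fun V hV hVT => by
    refine ih _ ?_ hVT (hZ₁.trans hV.le)
      (isCentric_mono hc₁ (imgι_mono hV.le) (d.imgι_le_T' hVT)) rfl
    have h1 := card_lt_of_lt (hVT.trans hTS) hV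
    rw [hφ.card_img] at h1
    have h2 : Nat.card V ≤ Nat.card S := card_le_of_le' le_rfl (hVT.trans hTS)
    omega
  have hL := d.loop_normalized hR₁T hZ₁ hc₁ hn ih₁
  intro f hf hfk
  obtain ⟨hfm, -, -, -⟩ := d.gmap_isMap hf
  have himgf := d.img_eq_of_kelt hRS hZ hfm hfk
  have hfmem : ∀ x ∈ R, f x ∈ R := fun x hx => himgf.le (hfm.mem_img.2 ⟨x, hx, rfl⟩)
  obtain ⟨g', -, hg'1, hg'2⟩ := hgm.exists_inv
  have hf₁ : GMap F Z θ E' p (img R g) (g ∘ f ∘ g') :=
    ((d.gmap_inv hg g' hg'1).comp hf fun y hy => (hg'2 y hy).1).comp hg fun y hy =>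
      hfmem _ (hg'2 y hy).1
  have hf₂ := d.gmap_transport hα hf₁
  rw [img_img hgm, hR₁eq] at hf₂
  have hcomp : ∀ x ∈ R, (autFun α ∘ (g ∘ f ∘ g') ∘ autFun α⁻¹) (autFun α (g x)) =
      autFun α (g (f x)) := fun x hx => by
    show autFun α (g (f (g' (autFun α⁻¹ (autFun α (g x)))))) = _
    rw [PPrime.autFun_symm (hgT x hx), hg'1 x hx]
  obtain ⟨r, hr, hre⟩ := hL _ hf₂ fun y hy => by
    rw [← hR₁eq] at hy
    obtain ⟨x, hx, rfl⟩ := hag.mem_img.1 hy
    show ext1 θ ((autFun α ∘ (g ∘ f ∘ g') ∘ autFun α⁻¹) (autFun α (g x))) = _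
    rw [hcomp x hx, hag' _ (hfmem x hx), ← hφe _ (hfmem x hx), hfk x hx, hφe x hx, ← hag' x hx]
    rfl
  rw [← hR₁eq] at hr
  obtain ⟨r₀, hr₀, hr₀e⟩ := hag.mem_img.1 hr
  refine ⟨r₀, hr₀, fun x hx => ?_⟩
  have h1 := hre (autFun α (g x)) (hR₁eq.le (hag.mem_img.2 ⟨x, hx, rfl⟩))
  rw [hcomp x hx, ← hr₀e] at h1
  refine hag.inj (hfmem x hx) (mul_mem (mul_mem hr₀ hx) (inv_mem hr₀)) ?_
  rw [hag.map_conj hr₀ hx]
  exact h1

/-- The lifts of a map are unique up to inner automorphisms. -/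
theorem gmap_unique (hP : Z ≤ P) (hc : E'.IsCentric (imgι θ P)) (hf : GMap F Z θ E' p P f)
    (hg : GMap F Z θ E' p P g) (he : ∀ x ∈ P, ext1 θ (f x) = ext1 θ (g x)) :
    ∃ r ∈ P, ∀ x ∈ P, f x = g (r * x * r⁻¹) := by
  obtain ⟨hfm, hPT, -, -⟩ := d.gmap_isMap hf
  obtain ⟨hgm, -, ⟨e, hem, hei⟩, -⟩ := d.gmap_isMap hg
  obtain ⟨g', -, hg'1, hg'2⟩ := hgm.exists_inv
  have hPS := d.le_S hPT
  have hmem : ∀ x ∈ P, f x ∈ img P g := fun x hx => by
    have h1 : (g x)⁻¹ * f x ∈ Z := d.inv_mul_mem (hgm.mem_S hx) (hfm.mem_S hx) (he x hx).symm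
    have h2 := hP h1
    rw [show f x = g x * ((g x)⁻¹ * f x) by group, ← d.fix hgm h1 h2, ← hgm.map_mul hx h2]
    exact hgm.mem_img.2 ⟨_, mul_mem hx h2, rfl⟩
  obtain ⟨r, hr, hre⟩ := d.loop_all hPT hP hc _ (hf.comp (d.gmap_inv hg g' hg'1) hmem) fun x hx => by
    show ext1 θ (g' (f x)) = ext1 θ x
    obtain ⟨h1, h2⟩ := hg'2 _ (hmem x hx)
    refine hem.inj (ext1_mem_imgι hPS h1) (ext1_mem_imgι hPS hx) ?_
    rw [← hei _ h1, ← hei x hx, h2, he x hx]
  refine ⟨r, hr, fun x hx => ?_⟩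
  rw [← hre x hx]
  exact ((hg'2 _ (hmem x hx)).2).symm

/-- The lifted system. -/
theorem exists_system : ∃ E : FusionSystem (preimageAlong θ T'),
    ∀ (P : Subgroup Ω) (f : Ω → Ω), IsMap E P f ↔ GMap F Z θ E' p P f := by
  refine ⟨mkSystem F (preimageAlong θ T') (GMap F Z θ E' p)
    (fun P f h => ⟨(d.gmap_isMap h).1, (d.gmap_isMap h).2.1, (d.gmap_isMap h).2.2.2⟩)
    (fun P f g h he => h.congr he) (fun P t hP ht => GMap.conj hP ht)
    (fun P Q f g h1 h2 hm => h1.comp h2 hm)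
    (fun P f f' h _ he => d.gmap_inv h f' he), fun P f => isMap_mkSystem_iff _⟩

section System

variable {E : FusionSystem (preimageAlong θ T')}
  (hE : ∀ (P : Subgroup Ω) (f : Ω → Ω), IsMap E P f ↔ GMap F Z θ E' p P f)
include hE

theorem system_sub : E.IsSubsystemOf F := fun P φ hφ =>
  mem_hom_iff.2 (d.gmap_isMap ((hE P _).1 (isMap_toFun hφ))).1

theorem system_satAt (hR : R ≤ preimageAlong θ T') (hZ : Z ≤ R)
    (hc : E'.IsCentric (imgι θ R)) : FamilySat.SatAt E p R := by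
  haveI := d.finite_T'
  have hTS := preimageAlong_le θ T'
  haveI : Finite (preimageAlong θ T') := finite_of_le hTS
  have hTp : IsPGroup p (preimageAlong θ T') := d.isPGroup.to_le hTS
  obtain ⟨Q', hQ', hQn⟩ := exists_fullyNormalized (F := E') (d.imgι_le_T' hR)
  obtain ⟨e, he, rfl⟩ := isConj_iff.1 hQ'
  obtain ⟨g, hg, hgi⟩ := d.exists_gmap_lift hR he
  obtain ⟨hgm, -, -, -⟩ := d.gmap_isMap hg
  obtain ⟨Q, hQd⟩ : ∃ Q, Q = img R g := ⟨_, rfl⟩
  have hQimg : imgι θ Q = img (imgι θ R) e := hQd ▸ d.imgι_img_eq hgm he hgi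
  have hQT : Q ≤ preimageAlong θ T' := hQd ▸ d.img_le_T hg
  have hQS := d.le_S hQT
  have hZQ : Z ≤ Q := hQd ▸ d.gmap_Z_le hg hZ
  have hQc : E'.IsCentric (imgι θ Q) := by
    rw [hQimg]; exact isCentric_of_isConj hc hQ'
  rw [← hQimg] at hQn
  obtain ⟨hauto, hrec⟩ := IsSaturated.automized_receptive d.isPGroupT d.satE hQn
  refine ⟨Q, isConj_iff.2 ⟨g, (hE R g).2 hg, hQd.symm⟩,
    (isFullyAutomized_iff hTp).2 ⟨hQT, fun hd => ?_⟩,
    isReceptive_iff.2 ⟨hQT, fun P f hf hfimg => ?_⟩⟩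
  · haveI := finite_of_le hQT
    haveI := finite_mulAut (P := Q)
    haveI : Finite (imgι θ Q) := finite_of_le (d.imgι_le_T' hQT)
    haveI := finite_mulAut (P := imgι θ Q)
    obtain ⟨B, hAB, hBE, hBp, hBi⟩ := exists_le_not_dvd_relIndex
      (isPGroup_autInducedBy (P := Q) hTp) (autInducedBy_le_autGroup (F := E) hQT)
    let B' : Subgroup (MulAut (imgι θ Q)) :=
      { carrier := {b' | ∃ b ∈ B, Ind θ Q (autFun b) (autFun b')}
        one_mem' := ⟨1, one_mem B, fun x hx => by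
          rw [autFun_one hx, autFun_one (ext1_mem_imgι hQS hx)]⟩
        mul_mem' := fun {u w} ⟨a, ha, hai⟩ ⟨b, hb, hbi⟩ => ⟨a * b, mul_mem ha hb, fun x hx => by
          rw [autFun_mul _ _ hx, autFun_mul _ _ (ext1_mem_imgι hQS hx), hai _ (autFun_mem b hx),
            hbi x hx]⟩
        inv_mem' := fun {u} ⟨a, ha, hai⟩ => ⟨a⁻¹, inv_mem ha, fun x hx => by
          have h1 := hai _ (autFun_mem a⁻¹ hx)
          rw [PPrime.autFun_symm' hx] at h1
          rw [h1, PPrime.autFun_symm (ext1_mem_imgι hQS (autFun_mem a⁻¹ hx))]⟩ }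
    have hB'p : IsPGroup p B' := by
      rintro ⟨b', b, hb, hbi⟩
      obtain ⟨j, hj⟩ := hBp ⟨b, hb⟩
      have hj' : b ^ p ^ j = 1 := congrArg Subtype.val hj
      refine ⟨j, Subtype.ext (autFun_ext fun y hy => ?_)⟩
      obtain ⟨x, hx, rfl⟩ := (mem_imgι hQS).1 hy
      rw [Subgroup.coe_pow, Subgroup.coe_one, autFun_one hy, ← hbi.pow hQS (p ^ j) x hx, hj',
        autFun_one hx]
    have hB'E : B' ≤ E'.autGroup (imgι θ Q) := by
      rintro b' ⟨b, hb, hbi⟩
      obtain ⟨-, -, ⟨c, hc', hci⟩, -⟩ :=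
        d.gmap_isMap ((hE Q _).1 ((mem_autGroup_iff hQT).1 (hBE hb)))
      refine (mem_autGroup_iff (d.imgι_le_T' hQT)).2 (hc'.congr fun y hy => ?_)
      obtain ⟨x, hx, rfl⟩ := (mem_imgι hQS).1 hy
      rw [← hbi x hx, hci x hx]
    obtain ⟨-, hi⟩ := (isFullyAutomized_iff d.isPGroupT).1 hauto
    obtain ⟨δ, -, hδ⟩ := exists_conj_le_of_not_dvd_relIndex (isPGroup_autInducedBy d.isPGroupT)
      (autInducedBy_le_autGroup (d.imgι_le_T' hQT)) hi hB'p hB'E
    have hA'B : autInducedBy T' (imgι θ Q) ≤ B' := fun u hu => by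
      obtain ⟨t', ht', hte⟩ := mem_autInducedBy_iff.1 hu
      obtain ⟨t, ht, rfl⟩ := exists_preimage (α := θ) (d.T'_le.trans d.range.ge) ht'
      have htN : t ∈ Subgroup.normalizer (Q : Set Ω) :=
        d.mem_normalizer_of_image hQS hZQ (hTS ht) (mem_normalizer_of_autFun hte)
      refine ⟨conjAut t htN, hAB (conjAut_mem ht htN), fun x hx => ?_⟩
      rw [autFun_conjAut htN hx, hte _ (ext1_mem_imgι hQS hx), ext1_conj θ (hTS ht) (hQS hx)]
    have hB'A : B' = autInducedBy T' (imgι θ Q) := by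
      refine (Subgroup.eq_of_le_of_card_ge hA'B ?_).symm
      rw [← card_conjBy δ B']
      exact Subgroup.card_le_of_le hδ
    suffices hBeq : B = autInducedBy (preimageAlong θ T') Q from hBi (hBeq ▸ hd)
    refine le_antisymm (fun b hb => ?_) hAB
    obtain ⟨-, -, ⟨c, hc', hci⟩, -⟩ :=
      d.gmap_isMap ((hE Q _).1 ((mem_autGroup_iff hQT).1 (hBE hb)))
    have hci' : img (imgι θ Q) c = imgι θ Q :=
      img_eq_of_map_le (S := T') (d.imgι_le_T' hQT) hc' le_rfl fun y hy => by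
        obtain ⟨x, hx, rfl⟩ := (mem_imgι hQS).1 hy
        rw [← hci x hx]
        exact ext1_mem_imgι hQS (autFun_mem b hx)
    have hmem : autOf hc' hci' ∈ B' := ⟨b, hb, fun x hx => by
      rw [hci x hx, autFun_autOf hc' hci' (ext1_mem_imgι hQS hx)]⟩
    rw [hB'A] at hmem
    obtain ⟨t', ht', hte⟩ := mem_autInducedBy_iff.1 hmem
    obtain ⟨t, ht, rfl⟩ := exists_preimage (α := θ) (d.T'_le.trans d.range.ge) ht'
    obtain ⟨r, hr, hre⟩ := d.gmap_unique hZQ hQc
      ((hE Q _).1 ((mem_autGroup_iff hQT).1 (hBE hb))) (GMap.conj (p := p) hQT ht) fun x hx => by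
        rw [hci x hx, ext1_conj θ (hTS ht) (hQS hx), ← hte _ (ext1_mem_imgι hQS hx),
          autFun_autOf hc' hci' (ext1_mem_imgι hQS hx)]
    exact mem_autInducedBy_iff.2 ⟨t * r, mul_mem ht (hQT hr), fun x hx => by
      rw [hre x hx]; group⟩
  · obtain ⟨hfm, hPT, ⟨c, hc', hci⟩, -⟩ := d.gmap_isMap ((hE P f).1 hf)
    have hPS := d.le_S hPT
    have hZP : Z ≤ P := fun z hz => by
      obtain ⟨x, hx, hxz⟩ := hfm.mem_img.1 (hfimg.ge (hZQ hz))
      have hxS := hPS hx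
      obtain ⟨g₁, hg₁, hg₁f, hg₁z⟩ := (isCentral_iff.1 d.central).2 P f hfm
      have : x = z := hg₁.inj (Subgroup.mem_sup_left hx) (Subgroup.mem_sup_right hz)
        (by rw [hg₁f x hx, hxz, hg₁z z hz])
      exact this ▸ hx
    have hPc : E'.IsCentric (imgι θ P) := by
      refine isCentric_of_isConj hQc (isConj_symm (isConj_iff.2 ⟨c, hc', ?_⟩))
      rw [← d.imgι_img_eq hfm hc' hci, hfimg]
    obtain ⟨c₁, hc₁, hc₁e⟩ := (isReceptive_iff.1 hrec).2 _ c hc'
      (by rw [← d.imgι_img_eq hfm hc' hci, hfimg])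
    have hXT : extSub (preimageAlong θ T') P f ≤ preimageAlong θ T' :=
      (extSub_le).trans inf_le_left
    have hX' : imgι θ (extSub (preimageAlong θ T') P f) ≤ extSub T' (imgι θ P) c := by
      intro y hy
      obtain ⟨n, hn, rfl⟩ := (mem_imgι (hXT.trans hTS)).1 hy
      obtain ⟨hnN, m, hm, hme⟩ := mem_extSub.1 hn
      refine mem_extSub.2 ⟨⟨(mem_preimageAlong.1 hnN.1).2,
        (d.mem_normalizer' hPS ⟨hTS hnN.1, hnN.2⟩).2⟩, ext1 θ m, (mem_preimageAlong.1 hm).2,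
        fun y hy => ?_⟩
      obtain ⟨x, hx, rfl⟩ := (mem_imgι hPS).1 hy
      rw [← ext1_conj θ (hTS hnN.1) (hPS hx),
        ← hci _ ((Subgroup.mem_normalizer_iff.1 hnN.2 x).1 hx), hme x hx,
        ext1_conj θ (hTS hm) (hfm.mem_S hx), hci x hx]
    obtain ⟨g₁, hg₁, hg₁i⟩ := d.exists_gmap_lift hXT (hc₁.mono hX')
    have hPX : P ≤ extSub (preimageAlong θ T') P f := le_extSub hf
    obtain ⟨r, hr, hre⟩ := d.gmap_unique hZP hPc ((hE P f).1 hf) (hg₁.mono hPX) fun x hx => by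
      rw [hci x hx, hg₁i x (hPX hx), hc₁e _ (ext1_mem_imgι hPS hx)]
    have hconj : GMap F Z θ E' p (extSub (preimageAlong θ T') P f) (fun x => r * x * r⁻¹) :=
      GMap.conj hXT (hPT hr)
    refine ⟨_, (hE _ _).2 (hconj.comp hg₁ fun x hx =>
      mul_mem (mul_mem (hPX hr) hx) (inv_mem (hPX hr))), fun x hx => ?_⟩
    exact (hre x hx).symm

theorem system_saturated : E.IsSaturated p := by
  haveI := d.finite_T'
  have hTS := preimageAlong_le θ T'
  haveI : Finite (preimageAlong θ T') := finite_of_le hTS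
  have hTp : IsPGroup p (preimageAlong θ T') := d.isPGroup.to_le hTS
  refine FamilySat.isSaturated_of_family hTp
    (ℋ := {R | Z ≤ R ∧ R ≤ preimageAlong θ T' ∧ E'.IsCentric (imgι θ R)}) ?_ ?_ ?_ ?_
  · rintro R ⟨hZ, hR, hc⟩ R' hR'
    obtain ⟨f, hf, rfl⟩ := isConj_iff.1 hR'
    have hg := (hE R f).1 hf
    exact ⟨d.gmap_Z_le hg hZ, d.img_le_T hg, isCentric_of_isConj hc (d.isConj_img hg)⟩
  · rintro R ⟨hZ, hR, hc⟩
    exact d.system_satAt hE hR hZ hc
  · intro E₂ hE₂ P φ hφ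
    have key : ∀ {P : Subgroup Ω} {f : Ω → Ω}, GMap F Z θ E' p P f → IsMap E₂ P f := by
      intro P f hf
      induction hf with
      | @base R P β hZ hR hc hle hβ hk =>
        obtain ⟨φ, hφ, hφe⟩ := (hE R _).2 (d.over1_gmap hZ hR hc hβ hk)
        exact (show IsMap E₂ R (autFun β) from ⟨φ, hE₂ R ⟨hZ, hR, hc⟩ hφ, hφe⟩).mono hle
      | conj hP ht => exact isMap_conj hP ht
      | comp _ _ hm h1 h2 => exact h1.comp h2 hm
      | congr _ he h1 => exact h1.congr he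
    exact mem_hom_iff.2 (key ((hE P _).1 (isMap_toFun hφ)))
  · intro P hP hPn
    by_cases hZ : Z ≤ P
    · have hc : ¬ E'.IsCentric (imgι θ P) := fun h => hPn ⟨hZ, hP, h⟩
      have hex : ∃ Q', E'.IsConj (imgι θ P) Q' ∧ ¬ centralizerIn T' Q' ≤ Q' := by
        by_contra hcon
        push Not at hcon
        exact hc ⟨d.imgι_le_T' hP, hcon⟩
      obtain ⟨Q', hQ', hne⟩ := hex
      obtain ⟨c', hc', hcQ'⟩ := SetLike.not_le_iff_exists.1 hne
      obtain ⟨e, he, rfl⟩ := isConj_iff.1 hQ'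
      obtain ⟨g, hg, hgi⟩ := d.exists_gmap_lift hP he
      obtain ⟨hgm, -, -, -⟩ := d.gmap_isMap hg
      have hQimg := d.imgι_img_eq hgm he hgi
      have hQT := d.img_le_T hg
      have hQS := d.le_S hQT
      have hZQ := d.gmap_Z_le hg hZ
      obtain ⟨c, hcT, rfl⟩ := exists_preimage (α := θ) (d.T'_le.trans d.range.ge) hc'.1
      have hcc := hc'.2
      rw [← hQimg] at hcc
      have hcN : c ∈ normalizerIn (preimageAlong θ T') (img P g) := Subgroup.mem_inf.2 ⟨hcT,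
        d.mem_normalizer_of_image hQS hZQ (hTS hcT) (Subgroup.centralizer_le_normalizer _ hcc)⟩
      refine ⟨img P g, isConj_iff.2 ⟨g, (hE P g).2 hg, rfl⟩, c,
        ⟨hcN, SubsystemCentric.inO_of_stabilize hTp hQT (M := Z) hZQ ?_ hcN ?_ ?_⟩, fun h => hcQ' ?_⟩
      · intro a ha y hy
        rw [d.fix (d.gmap_isMap ((hE _ _).1 ((mem_autGroup_iff hQT).1 ha))).1 hy (hZQ hy)]
        exact hy
      · intro y hy
        rw [d.Z_comm hy (hTS hcT), mul_inv_cancel_right]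
      · intro y hy
        refine d.inv_mul_mem (hQS hy) (mul_mem (mul_mem (hTS hcT) (hQS hy)) (inv_mem (hTS hcT))) ?_
        rw [ext1_conj θ (hTS hcT) (hQS hy),
          ← Subgroup.mem_centralizer_iff.1 hcc _ (ext1_mem_imgι hQS hy), mul_inv_cancel_right]
      · exact hQimg.le (ext1_mem_imgι hQS h)
    · obtain ⟨z, hz, hzP⟩ := SetLike.not_le_iff_exists.1 hZ
      have hzT : z ∈ preimageAlong θ T' := d.Z_le_preimage T' hz
      have hzN : z ∈ normalizerIn (preimageAlong θ T') P := by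
        refine Subgroup.mem_inf.2 ⟨hzT, Subgroup.centralizer_le_normalizer _ ?_⟩
        exact Subgroup.mem_centralizer_iff.2 fun y hy => d.Z_comm hz (hTS (hP hy))
      have hfix : ∀ y ∈ P, z * y * z⁻¹ = y := fun y hy => by
        rw [← d.Z_comm hz (hTS (hP hy)), mul_inv_cancel_right]
      refine ⟨P, isConj_refl hP, z,
        ⟨hzN, SubsystemCentric.inO_of_stabilize hTp hP (M := ⊥) bot_le ?_ hzN ?_ ?_⟩, hzP⟩
      · intro a _ y hy
        rw [Subgroup.mem_bot] at hy ⊢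
        rw [hy, autFun_map_one]
      · intro y hy
        rw [Subgroup.mem_bot.1 hy]; group
      · intro y hy
        rw [hfix y hy, inv_mul_cancel]
        exact one_mem _

theorem system_invariant : E.IsInvariantIn F := by
  haveI := d.finite_S'
  have hTS := preimageAlong_le θ T'
  refine ⟨d.system_sub hE, d.T_closed, fun P hPT φ hφ α hα => ?_, fun P hPT φ hφ => ?_⟩
  · have hαm := (mem_autGroup_iff hTS).1 hα
    have himg : (P.subgroupOf (preimageAlong θ T')).map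
        ((preimageAlong θ T').subtype.comp α.toMonoidHom) = img P (autFun α) := by
      rw [map_subgroupOf_eq_img hPT]
      rfl
    rw [himg]
    obtain ⟨χ, hχ, hχe⟩ := (hE _ _).2 (d.gmap_transport hα ((hE P _).1 (isMap_toFun hφ)))
    refine ⟨χ, hχ, fun x hφx hαx => ?_⟩
    rw [hχe]
    show autFun α (toFun φ (autFun α⁻¹ ((α ⟨x, hPT x.2⟩ : preimageAlong θ T') : Ω))) = _
    rw [← autFun_apply α (hPT x.2), PPrime.autFun_symm (hPT x.2), toFun_coe φ x,
      autFun_apply α hφx]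
  · -- Frattini
    let Dec : Subgroup Ω → (Ω → Ω) → Prop := fun P f =>
      ∃ α ∈ F.autGroup (preimageAlong θ T'), ∃ e, GMap F Z θ E' p P e ∧
        ∀ x ∈ P, f x = autFun α (e x)
    have hdirect : ∀ {P : Subgroup Ω} {f : Ω → Ω}, Z ≤ P → P ≤ preimageAlong θ T' →
        F.IsFullyNormalized P → IsMap F P f → Dec P f := by
      intro P f hZP hPT hn hf
      have hPS := d.le_S hPT
      obtain ⟨f', hf', hf'e⟩ := exists_image_map d.surj hf
      obtain ⟨a, e, he, hae⟩ := d.setup.exists_decomp hf' (d.imgι_le_T' hPT)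
      obtain ⟨g, hg, hgi⟩ := d.exists_gmap_lift hPT he
      obtain ⟨α, hα, hαi⟩ := d.exists_lift_aut a
      have hαm := (mem_autGroup_iff hTS).1 hα
      obtain ⟨hgm, -, -, hgT⟩ := d.gmap_isMap hg
      have hh : IsMap F P (autFun α ∘ g) := hgm.comp hαm hgT
      have hhe : ∀ x ∈ P, ext1 θ (autFun α (g x)) = ext1 θ (f x) := fun x hx => by
        rw [hαi _ (hgT x hx), hgi x hx, ← hae _ (ext1_mem_imgι hPS hx), hf'e x hx]
      obtain ⟨h', hh', hh'1, hh'2⟩ := hh.exists_inv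
      have hmem : ∀ x ∈ P, f x ∈ img P (autFun α ∘ g) := fun x hx => by
        have h1 : (autFun α (g x))⁻¹ * f x ∈ Z :=
          d.inv_mul_mem (hh.mem_S hx) (hf.mem_S hx) (hhe x hx)
        have h2 := hZP h1
        rw [show f x = (autFun α ∘ g) x * ((autFun α (g x))⁻¹ * f x) by
          show _ = autFun α (g x) * _; group, ← d.fix hh h1 h2, ← hh.map_mul hx h2]
        exact hh.mem_img.2 ⟨_, mul_mem hx h2, rfl⟩
      have hk := hf.comp hh' hmem
      have hker : ∀ x ∈ P, ext1 θ (h' (f x)) = ext1 θ x := fun x hx => by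
        obtain ⟨h1, h2⟩ := hh'2 _ (hmem x hx)
        have hkey : f' (ext1 θ (h' (f x))) = f' (ext1 θ x) := by
          have h4 : ext1 θ (autFun α (g (h' (f x)))) = ext1 θ (f x) := congrArg (ext1 θ) h2
          rw [hhe _ h1] at h4
          rw [hf'e _ h1, hf'e x hx, h4]
        exact hf'.inj (ext1_mem_imgι hPS h1) (ext1_mem_imgι hPS hx) hkey
      have hki := d.img_eq_of_kelt hPS hZP hk hker
      obtain ⟨s, hs, hse, -⟩ := d.kelt_conjAut hPS hZP hn (k := autOf hk hki)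
        ⟨autOf_mem hk hki, fun x hx => by rw [autFun_autOf hk hki hx]; exact hker x hx⟩
      have hsT : s ∈ Subgroup.normalizer ((preimageAlong θ T' : Subgroup Ω) : Set Ω) :=
        (le_normalizerIn_of_stronglyClosed d.T_closed hs.1).2
      have hγ : conjAut s hsT ∈ F.autGroup (preimageAlong θ T') :=
        autInducedBy_le_autGroup hTS (conjAut_mem hs.1 hsT)
      have htr := d.gmap_transport (inv_mem hγ) hg
      have hsP : img P (autFun (conjAut s hsT)⁻¹) = P := by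
        refine img_eq_of_map_le hPS ((mem_autGroup_iff hTS).1 (inv_mem hγ)) hPT fun x hx => ?_
        rw [autFun_inv_of_conj (fun z hz => autFun_conjAut hsT hz) (hPT hx)]
        exact (Subgroup.mem_normalizer_iff''.1 hs.2 x).1 hx
      rw [hsP] at htr
      refine ⟨α * conjAut s hsT, mul_mem hα hγ, _, htr, fun x hx => ?_⟩
      show f x = autFun (α * conjAut s hsT)
        (autFun (conjAut s hsT)⁻¹ (g (autFun (conjAut s hsT)⁻¹⁻¹ x)))
      rw [inv_inv, autFun_conjAut hsT (hPT hx)]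
      have hsx : s * x * s⁻¹ ∈ P := (Subgroup.mem_normalizer_iff.1 hs.2 x).1 hx
      rw [autFun_mul _ _ (autFun_mem _ (hgT _ hsx)), PPrime.autFun_symm' (hgT _ hsx), ← hse x hx,
        autFun_autOf hk hki hx]
      exact ((hh'2 _ (hmem x hx)).2).symm
    obtain ⟨hfm⟩ : Nonempty (IsMap F P (toFun φ)) := ⟨isMap_toFun hφ⟩
    -- extend over `Z`
    obtain ⟨f₁, hf₁, hf₁e, -⟩ := (isCentral_iff.1 d.central).2 P _ hfm
    have hPZT : P ⊔ Z ≤ preimageAlong θ T' := sup_le hPT (d.Z_le_preimage T')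
    have hdec : Dec (P ⊔ Z) f₁ := by
      obtain ⟨Q, hQ, hQn⟩ := exists_fullyNormalized (F := F) hf₁.le
      obtain ⟨ψ, hψ, rfl⟩ := isConj_iff.1 hQ
      have hψT : ∀ x ∈ P ⊔ Z, ψ x ∈ preimageAlong θ T' := fun x hx =>
        SubsystemCentric.map_mem_of_stronglyClosed d.T_closed hψ hx (hPZT hx)
      have hQT : img (P ⊔ Z) ψ ≤ preimageAlong θ T' := hψ.img_le_of_forall hψT
      have hZQ : Z ≤ img (P ⊔ Z) ψ := fun z hz => hψ.mem_img.2
        ⟨z, Subgroup.mem_sup_right hz, d.fix hψ hz (Subgroup.mem_sup_right hz)⟩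
      obtain ⟨ψ', hψ', hψ'1, hψ'2⟩ := hψ.exists_inv
      obtain ⟨α₁, hα₁, e₁, he₁, hψ'e⟩ := hdirect hZQ hQT hQn hψ'
      obtain ⟨α₂, hα₂, e₂, he₂, hfe⟩ := hdirect hZQ hQT hQn
        (hψ'.comp hf₁ fun y hy => (hψ'2 y hy).1)
      obtain ⟨he₁m, -, -, he₁T⟩ := d.gmap_isMap he₁
      obtain ⟨e₁', -, he₁'1, he₁'2⟩ := he₁m.exists_inv
      have hi := d.gmap_inv he₁ e₁' he₁'1
      have hc := hi.comp he₂ fun y hy => (he₁'2 y hy).1
      have hc' := d.gmap_transport hα₁ hc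
      have himg : img (img (img (P ⊔ Z) ψ) e₁) (autFun α₁) = P ⊔ Z := by
        rw [img_img he₁m]
        refine le_antisymm ((he₁m.comp ((mem_autGroup_iff hTS).1 hα₁) he₁T).img_le_of_forall
          fun y hy => ?_) fun x hx => ?_
        · show autFun α₁ (e₁ y) ∈ P ⊔ Z
          rw [← hψ'e y hy]; exact (hψ'2 y hy).1
        · refine (he₁m.comp ((mem_autGroup_iff hTS).1 hα₁) he₁T).mem_img.2
            ⟨ψ x, hψ.mem_img.2 ⟨x, hx, rfl⟩, ?_⟩
          show autFun α₁ (e₁ (ψ x)) = x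
          rw [← hψ'e _ (hψ.mem_img.2 ⟨x, hx, rfl⟩), hψ'1 x hx]
      rw [himg] at hc'
      refine ⟨α₂ * α₁⁻¹, mul_mem hα₂ (inv_mem hα₁), _, hc', fun x hx => ?_⟩
      have hy : ψ x ∈ img (P ⊔ Z) ψ := hψ.mem_img.2 ⟨x, hx, rfl⟩
      show f₁ x = autFun (α₂ * α₁⁻¹) (autFun α₁ (e₂ (e₁' (autFun α₁⁻¹ x))))
      have h1 : autFun α₁⁻¹ x = e₁ (ψ x) := by
        conv_lhs => rw [← hψ'1 x hx, hψ'e _ hy]
        exact PPrime.autFun_symm (he₁T _ hy)
      have he₂T := (d.gmap_isMap he₂).2.2.2 _ hy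
      rw [h1, he₁'1 _ hy, autFun_mul _ _ (autFun_mem _ he₂T), PPrime.autFun_symm he₂T, ← hfe _ hy]
      show f₁ x = f₁ (ψ' (ψ x))
      rw [hψ'1 x hx]
    obtain ⟨α, hα, e, he, hfe⟩ := hdec
    obtain ⟨φ₀, hφ₀, hφ₀e⟩ := (hE P e).2 (he.mono le_sup_left)
    refine ⟨α, hα, φ₀, hφ₀, fun x hx => ?_⟩
    have hex := (d.gmap_isMap he).2.2.2 _ (Subgroup.mem_sup_left x.2)
    rw [← toFun_coe φ x, ← hf₁e x x.2, hfe x (Subgroup.mem_sup_left x.2), autFun_apply α hex]
    congr 2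
    exact Subtype.ext (hφ₀e x).symm

end System

/-- A normal subsystem of the quotient lifts to a weakly normal subsystem. -/
theorem exists_weaklyNormal :
    ∃ E : FusionSystem (preimageAlong θ T'), E.IsWeaklyNormalIn F p := by
  obtain ⟨E, hE⟩ := d.exists_system
  exact ⟨E, d.system_saturated hE, d.sat, d.system_invariant hE⟩

end LiftData

end CfsgLib.Fusion.CentralLift
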