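import Cfsg.Agent.Lib.Fusion.System.CentralLift.Inner
import Cfsg.Agent.Lib.Fusion.System.KNormalizer
import Cfsg.Agent.Lib.Fusion.System.Model

/-!
# Lifted maps between overgroups inside the normalizer

A lifted map of an overgroup `W` of `P₀` inside `N_T(P₀)` which stabilizes `P₀` restricts to an
element of the generated automizer of `P₀`.
-/

set_option autoImplicit false
set_option linter.style.haveILetI false
set_option linter.unusedSectionVars false

open Subgroup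
open scoped Classical

namespace CfsgLib.Fusion.CentralLift

open Cfsg (FusionSystem autInducedBy)
open Cfsg.FusionSystem (normalizerIn centralizerIn preimageAlong)
open CfsgLib.Fusion

universe u v

variable {Ω : Type u} [Group Ω] {Ω' : Type v} [Group Ω'] {S Z : Subgroup Ω} {S' T' : Subgroup Ω'}
  {F : FusionSystem S} {F' : FusionSystem S'} {E' : FusionSystem T'} {θ : S →* Ω'} {p : ℕ}
  [Finite S] [Fact p.Prime] {P Q R W : Subgroup Ω} {f g h : Ω → Ω} {e : Ω' → Ω'}

/-- `f` agrees on `P` with an element of the generated automizer. -/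
def Gen (F : FusionSystem S) (θ : S →* Ω') (E' : FusionSystem T') (p : ℕ) (P : Subgroup Ω)
    (f : Ω → Ω) : Prop :=
  ∃ g ∈ genAut F θ E' p P, ∀ x ∈ P, f x = autFun g x

theorem Gen.mem (h : Gen F θ E' p P f) {x : Ω} (hx : x ∈ P) : f x ∈ P := by
  obtain ⟨g, -, hg⟩ := h
  rw [hg x hx]; exact autFun_mem g hx

theorem Gen.congr (h : Gen F θ E' p P f) (he : ∀ x ∈ P, g x = f x) : Gen F θ E' p P g :=
  h.imp fun _ ha => ⟨ha.1, fun x hx => (he x hx).trans (ha.2 x hx)⟩

theorem Gen.comp (hf : Gen F θ E' p P f) (hg : Gen F θ E' p P g) :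
    Gen F θ E' p P (g ∘ f) := by
  obtain ⟨a, ha, hae⟩ := hf
  obtain ⟨b, hb, hbe⟩ := hg
  refine ⟨b * a, mul_mem hb ha, fun x hx => ?_⟩
  show g (f x) = _
  rw [hae x hx, hbe _ (autFun_mem a hx), autFun_mul _ _ hx]

theorem Gen.inv (hf : Gen F θ E' p P f) {f' : Ω → Ω} (h : ∀ x ∈ P, f' (f x) = x) :
    Gen F θ E' p P f' := by
  obtain ⟨a, ha, hae⟩ := hf
  refine ⟨a⁻¹, inv_mem ha, fun y hy => ?_⟩
  have h1 := h _ (autFun_mem a⁻¹ hy)
  rwa [hae _ (autFun_mem a⁻¹ hy), PPrime.autFun_symm' hy] at h1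

theorem Gen.img_eq (hP : P ≤ S) (hm : IsMap F R f) (hPR : P ≤ R) (hf : Gen F θ E' p P f) :
    img P f = P := by
  haveI := finite_of_le hP
  exact img_eq_of_map_le hP hm hPR fun x hx => hf.mem hx

theorem gen_conj {t : Ω} (ht : t ∈ normalizerIn (preimageAlong θ T') P) :
    Gen F θ E' p P (fun x => t * x * t⁻¹) :=
  ⟨_, Subgroup.subset_closure (Or.inr (conjAut_mem ht.1 ht.2)), fun _ hx =>
    (autFun_conjAut ht.2 hx).symm⟩

namespace LiftData

variable (d : LiftData F Z θ F' E' p)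
include d

theorem img_preimage_eq {P' : Subgroup Ω'} {e : Ω' → Ω'} (hf : IsMap F R f)
    (hP : preimageAlong θ P' ≤ R) (he : IsMap E' P' e) (hi : Ind θ (preimageAlong θ P') f e) :
    preimageAlong θ (img P' e) = img (preimageAlong θ P') f := by
  have hP'S : P' ≤ S' := he.le.trans d.T'_le
  have hm := hf.mono hP
  have h1 := d.imgι_img_eq hm (by rwa [d.imgι_preimage hP'S]) hi
  rw [d.imgι_preimage hP'S] at h1
  rw [← h1, d.preimage_imgι hm.img_le]
  exact fun z hz => hm.mem_img.2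
    ⟨z, d.Z_le_preimage P' hz, d.fix hm hz (d.Z_le_preimage P' hz)⟩

theorem mem_normalizer_of_image (hP : P ≤ S) (hZ : Z ≤ P) {x : Ω} (hx : x ∈ S)
    (hn : ext1 θ x ∈ Subgroup.normalizer (imgι θ P : Set Ω')) :
    x ∈ Subgroup.normalizer (P : Set Ω) := by
  refine conjBy_eq_iff.1 (eq_of_le_of_card_le hP (conjBy_le_iff.2 fun z hz => ?_)
    (card_conjBy x P).ge)
  refine d.mem_of_ext1 hP hZ (mul_mem (mul_mem hx (hP hz)) (inv_mem hx)) ?_
  rw [ext1_conj θ hx (hP hz)]
  exact (Subgroup.mem_normalizer_iff.1 hn _).1 (ext1_mem_imgι hP hz)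

/-- Restriction of an automorphism over `E'` of order prime to `p`. -/
theorem gen_of_coprime (hP : P ≤ preimageAlong θ T') (hPR : P ≤ R)
    (hR : R ≤ preimageAlong θ T') {a : MulAut R} (ha : Over1 θ F E' R a)
    (hco : (orderOf a).Coprime p) (himg : img P (autFun a) = P) :
    Gen F θ E' p P (autFun a) := by
  have hm := ((mem_autGroup_iff (d.le_S hR)).1 ha.1).mono hPR
  set b := autOf hm himg
  have hb : ∀ x ∈ P, autFun b x = autFun a x := fun x hx => autFun_autOf hm himg hx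
  refine ⟨b, Subgroup.subset_closure (Or.inl ⟨⟨autOf_mem hm himg, (ha.2.mono hPR).congr hb⟩,
    Nat.Coprime.coprime_dvd_left (orderOf_dvd_of_pow_eq_one ?_) hco⟩),
    fun x hx => (hb x hx).symm⟩
  have hpow : ∀ j : ℕ, ∀ x ∈ P, autFun (b ^ j) x = autFun (a ^ j) x := by
    intro j
    induction j with
    | zero => intro x hx; rw [pow_zero, pow_zero, autFun_one hx, autFun_one (hPR hx)]
    | succ j ih =>
      intro x hx
      rw [pow_succ, pow_succ, autFun_mul _ _ hx, autFun_mul _ _ (hPR hx),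
        ih _ (autFun_mem b hx), hb x hx]
  refine autFun_ext fun x hx => ?_
  rw [hpow _ x hx, pow_orderOf_eq_one, autFun_one (hPR hx), autFun_one hx]

/-- Maps of the normalizer system of the image lift to maps inducing generated automorphisms. -/
theorem gen_of_normalizer (hP : P ≤ preimageAlong θ T') (hZ : Z ≤ P)
    (hc : E'.IsCentric (imgι θ P)) (hn : E'.IsFullyNormalized (imgι θ P))
    (hPW : P ≤ W) (hW : W ≤ normalizerIn (preimageAlong θ T') P)
    (hh : GMap F Z θ E' p W h) (hhP : img P h = P)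
    (hhW : ∀ x ∈ W, h x ∈ normalizerIn (preimageAlong θ T') P)
    (ih : ∀ V, P < V → V ≤ preimageAlong θ T' → Loop F Z θ E' p V) (hlt : P < W) :
    Gen F θ E' p P h := by
  haveI := d.finite_T'
  set T := preimageAlong θ T' with hTd
  have hTS : T ≤ S := preimageAlong_le θ T'
  have hPS := d.le_S hP
  have hP'T : imgι θ P ≤ T' := d.imgι_le_T' hP
  set P' := imgι θ P with hP'd
  set N' := normalizerIn T' P' with hN'
  haveI : Finite N' := finite_of_le (inf_le_left : N' ≤ T')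
  have hN'p : IsPGroup p N' := d.isPGroupT.to_le inf_le_left
  set Ns := nSystem E' N' P' le_rfl hP'T with hNs
  have hNsys : E'.IsNormalizerSystem P' Ns := fun X => Set.ext fun φ => by
    rw [mem_normalizerHom_iff]
    exact Iff.rfl
  have hsat : Ns.IsSaturated p := isSaturated_normalizerSystem d.isPGroupT d.satE hn hNsys
  have hP'n : Ns.IsNormal P' := isNormal_normalizerSystem hP'T hNsys
  have hNsub : ∀ {X : Subgroup Ω'} {a : Ω' → Ω'}, IsMap Ns X a → IsMap E' X a := fun ha =>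
    (isMap_nSystem_iff.1 ha).isMap
  have hpre : preimageAlong θ P' = P := d.preimage_imgι hPS hZ
  have hT'S : T' ≤ θ.range := d.T'_le.trans d.range.ge
  let M : Subgroup Ω' → (Ω' → Ω') → Prop := fun X a => IsMap Ns X a ∧
    ∃ f, GMap F Z θ E' p (preimageAlong θ X ⊔ P) f ∧ Ind θ (preimageAlong θ X) f a ∧
      Gen F θ E' p P f
  have hXT : ∀ {X : Subgroup Ω'}, X ≤ N' → preimageAlong θ X ≤ T := fun hX =>
    preimageAlong_mono (hX.trans inf_le_left)
  have hXS : ∀ {X : Subgroup Ω'}, X ≤ N' → X ≤ θ.range := fun hX =>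
    hX.trans (inf_le_left.trans hT'S)
  let E₂ : FusionSystem N' := mkSystem Ns N' M
    (fun _ _ ha => ⟨ha.1, ha.1.le, fun _ hx => ha.1.mem_S hx⟩)
    (fun X a b ⟨ha, f, hf, hfi, hfg⟩ hb => ⟨ha.congr hb, f, hf, fun x hx => by
      rw [hfi x hx, hb _ (mem_preimageAlong.1 hx).2], hfg⟩)
    (fun X t hX ht => by
      obtain ⟨s, hs, rfl⟩ := exists_preimage (α := θ) hT'S ht.1
      exact ⟨isMap_conj hX ht, _, GMap.conj (sup_le (hXT hX) hP) hs, fun x hx =>
        ext1_conj θ (hTS hs) (preimageAlong_le θ X hx),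
        gen_conj (Subgroup.mem_inf.2 ⟨hs, d.mem_normalizer_of_image hPS hZ (hTS hs) ht.2⟩)⟩)
    (fun X Y a b ⟨ha, f, hf, hfi, hfg⟩ ⟨hb, g, hg, hgi, hgg⟩ hm => by
      have hfm := (d.gmap_isMap hf).1
      have hfX : ∀ x ∈ preimageAlong θ X, f x ∈ preimageAlong θ Y := fun x hx =>
        mem_preimageAlong.2 ⟨hfm.mem_S (Subgroup.mem_sup_left hx),
          by rw [hfi x hx]; exact hm _ (mem_preimageAlong.1 hx).2⟩
      refine ⟨ha.comp hb hm, g ∘ f, hf.comp hg fun z hz => hfm.map_mem_of_sup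
          (fun x hx => Subgroup.mem_sup_left (hfX x hx))
          (fun x hx => Subgroup.mem_sup_right (hfg.mem hx)) hz,
        fun x hx => ?_, hfg.comp hgg⟩
      show ext1 θ (g (f x)) = b (a (ext1 θ x))
      rw [hgi _ (hfX x hx), hfi x hx])
    (fun X a a' ⟨ha, f, hf, hfi, hfg⟩ ha' hinv => by
      have hfm := (d.gmap_isMap hf).1
      obtain ⟨f', -, hf'1, -⟩ := hfm.exists_inv
      have himg := d.img_preimage_eq hfm le_sup_left (hNsub ha) hfi
      have hle : preimageAlong θ (img X a) ⊔ P ≤ img (preimageAlong θ X ⊔ P) f :=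
        sup_le (himg.le.trans (hfm.img_mono le_sup_left))
          ((hfg.img_eq hPS hfm le_sup_right).ge.trans (hfm.img_mono le_sup_right))
      refine ⟨ha', f', (d.gmap_inv hf f' hf'1).mono hle, fun y hy => ?_,
        hfg.inv fun x hx => hf'1 x (Subgroup.mem_sup_right hx)⟩
      rw [himg] at hy
      obtain ⟨x, hx, rfl⟩ := (hfm.mono le_sup_left).mem_img.1 hy
      rw [hf'1 x (Subgroup.mem_sup_left hx), hfi x hx, hinv _ (mem_preimageAlong.1 hx).2])
  have hWS : W ≤ S := hW.trans (inf_le_left.trans hTS)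
  have hW'N : imgι θ W ≤ N' := by
    intro y hy
    obtain ⟨x, hx, rfl⟩ := (mem_imgι hWS).1 hy
    exact ⟨(mem_preimageAlong.1 (hW hx).1).2, (d.mem_normalizer' hPS ⟨hWS hx, (hW hx).2⟩).2⟩
  obtain ⟨hhm, hWT, ⟨e, he, hei⟩, -⟩ := d.gmap_isMap hh
  have heN : IsMap Ns (imgι θ W) e := by
    refine isMap_nSystem_iff.2 ⟨hW'N, fun y hy => ?_, e, ?_, fun _ _ => rfl, ?_⟩
    · obtain ⟨x, hx, rfl⟩ := (mem_imgι hWS).1 hy
      rw [← hei x hx]
      have h1 := hhW x hx
      exact ⟨(mem_preimageAlong.1 h1.1).2, (d.mem_normalizer' hPS ⟨hTS h1.1, h1.2⟩).2⟩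
    · exact he.mono (sup_le le_rfl (imgι_mono hPW))
    · rw [hP'd, ← d.imgι_img_eq (hhm.mono hPW) (he.mono (imgι_mono hPW)) (hei.mono hPW), hhP]
  have hkey : IsMap E₂ (imgι θ W) e := by
    refine isMap_of_autGroup_le hN'p hsat (fun U hU a ha => ?_) heN
    have hUN : U ≤ N' := hU.elim (fun h => h.le) (fun h => h.1.1)
    have hPU : P' ≤ U := hU.elim (fun h => h ▸ le_inf hP'T Subgroup.le_normalizer)
      (fun h => le_of_isNormal hN'p hP'n (isEssential_centric_radical hN'p h).1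
        (isEssential_centric_radical hN'p h).2)
    have hUT : U ≤ T' := hUN.trans inf_le_left
    have hUc : E'.IsCentric U := isCentric_mono hc hPU hUT
    have hUn : Ns.IsFullyNormalized U :=
      hU.elim (fun h => by subst h; exact isFullyNormalized_self) (fun h => h.2.1)
    obtain ⟨R, hR⟩ : ∃ R, R = preimageAlong θ U := ⟨_, rfl⟩
    have hPR : P ≤ R := hR ▸ hpre.ge.trans (preimageAlong_mono hPU)
    have hRT : R ≤ T := hR ▸ hXT hUN
    have hZR : Z ≤ R := hR ▸ d.Z_le_preimage U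
    have hRS := d.le_S hRT
    have hRimg : imgι θ R = U := hR ▸ d.imgι_preimage (hUT.trans d.T'_le)
    have hsupeq : preimageAlong θ U ⊔ P = R := by rw [← hR, sup_eq_left.2 hPR]
    have hM : ∀ a : MulAut U, a ∈ Ns.autGroup U →
        (M U (autFun a) ↔ ∃ f, GMap F Z θ E' p R f ∧ Ind θ R f (autFun a) ∧
          Gen F θ E' p P f) := fun a ha => by
      constructor
      · rintro ⟨-, f, h1, h2, h3⟩
        exact ⟨f, hsupeq ▸ h1, hR ▸ h2, h3⟩
      · rintro ⟨f, h1, h2, h3⟩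
        exact ⟨(mem_autGroup_iff hUN).1 ha, f, hsupeq.symm ▸ h1, hR ▸ h2, h3⟩
    refine (mem_autGroup_iff hUN).2 ((isMap_mkSystem_iff M).2 ((hM a ha).2 ?_))
    clear hM hsupeq hR
    subst hRimg
    have hmS : ∀ {f : Ω → Ω} {b : MulAut (imgι θ R)}, GMap F Z θ E' p R f →
        Ind θ R f (autFun b) → ∀ x ∈ R, f x ∈ R := fun hf hi x hx =>
      d.mem_of_ext1 hRS hZR ((d.gmap_isMap hf).1.mem_S hx)
        (by rw [hi x hx]; exact autFun_mem _ (ext1_mem_imgι hRS hx))
    obtain ⟨u, hu, β, hβ, he'⟩ := exists_conj_mul_residual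
      (IsSaturated.automized_receptive hN'p hsat hUn).1 ⟨a, ha⟩
    have hres : ∃ f, GMap F Z θ E' p R f ∧ Ind θ R f (autFun (β : MulAut (imgι θ R))) ∧
        Gen F θ E' p P f := by
      unfold Cfsg.pResidual at hβ
      clear he'
      induction hβ using Subgroup.closure_induction with
      | mem b hb =>
        have hbE : (b : MulAut (imgι θ R)) ∈ E'.autGroup (imgι θ R) :=
          (mem_autGroup_iff hUT).2 (hNsub ((mem_autGroup_iff hUN).1 b.2))
        obtain ⟨c, hc', hk, hi⟩ := d.exists_lift_coprime hRT hZR hbE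
          ((Subgroup.orderOf_coe b).symm ▸ hb)
        refine ⟨_, d.over1_gmap hZR hRT hUc hc' hk, hi, d.gen_of_coprime hP hPR hRT hc' hk ?_⟩
        refine img_eq_of_map_le hPS ((mem_autGroup_iff hRS).1 hc'.1) hPR fun x hx => ?_
        refine d.mem_of_ext1 hPS hZ (hRS (autFun_mem c (hPR hx))) ?_
        rw [hi x (hPR hx)]
        obtain ⟨-, -, g₀, hg₀, hg₀e, hg₀P⟩ := isMap_nSystem_iff.1 ((mem_autGroup_iff hUN).1 b.2)
        rw [← hg₀e _ (hPU (ext1_mem_imgι hPS hx))]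
        exact mem_of_img_eq hg₀ le_sup_right hg₀P (ext1_mem_imgι hPS hx)
      | one =>
        refine ⟨id, GMap.id_map hRT, fun x hx => ?_, 1, one_mem _,
          fun x hx => (autFun_one hx).symm⟩
        rw [Subgroup.coe_one, autFun_one (ext1_mem_imgι hRS hx)]
        rfl
      | mul b c _ _ hb hc =>
        obtain ⟨f₁, hf₁, hi₁, hg₁⟩ := hb
        obtain ⟨f₂, hf₂, hi₂, hg₂⟩ := hc
        have hm₂ := hmS hf₂ hi₂
        refine ⟨f₁ ∘ f₂, hf₂.comp hf₁ hm₂, fun x hx => ?_, hg₂.comp hg₁⟩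
        rw [Subgroup.coe_mul, autFun_mul _ _ (ext1_mem_imgι hRS hx), ← hi₂ x hx]
        exact hi₁ _ (hm₂ x hx)
      | inv b _ hb =>
        obtain ⟨f, hf, hi, hg⟩ := hb
        have hm := (d.gmap_isMap hf).1
        have himg : img R f = R := img_eq_of_map_le hRS hm le_rfl (hmS hf hi)
        obtain ⟨f', -, hf'1, -⟩ := hm.exists_inv
        have h := d.gmap_inv hf f' hf'1
        rw [himg] at h
        refine ⟨f', h, fun y hy => ?_, hg.inv fun x hx => hf'1 x (hPR hx)⟩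
        obtain ⟨x, hx, rfl⟩ := hm.mem_img.1 (himg.ge hy)
        rw [hf'1 x hx, hi x hx, Subgroup.coe_inv, PPrime.autFun_symm (ext1_mem_imgι hRS hx)]
    obtain ⟨f, hf, hi, hg⟩ := hres
    obtain ⟨t, ht, rfl⟩ := exists_preimage (α := θ) hT'S hu.1.1
    have htN : t ∈ normalizerIn T P :=
      Subgroup.mem_inf.2 ⟨ht, d.mem_normalizer_of_image hPS hZ (hTS ht) hu.1.2⟩
    refine ⟨_, hf.comp (GMap.conj hRT ht) (hmS hf hi), fun x hx => ?_, hg.comp (gen_conj htN)⟩
    show ext1 θ (t * f x * t⁻¹) = _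
    rw [ext1_conj θ (hTS ht) (hRS (hmS hf hi x hx)), hi x hx]
    exact (he' _ (ext1_mem_imgι hRS hx)).symm
  obtain ⟨-, f, hf, hfi, hfg⟩ := (isMap_mkSystem_iff M).1 hkey
  rw [d.preimage_imgι hWS (hZ.trans hPW), sup_eq_left.2 hPW] at hf
  rw [d.preimage_imgι hWS (hZ.trans hPW)] at hfi
  -- the two lifts differ by an inner automorphism
  obtain ⟨hfm, -, -, -⟩ := d.gmap_isMap hf
  obtain ⟨f', -, hf'1, hf'2⟩ := hfm.exists_inv
  have himg : ∀ x ∈ W, h x ∈ img W f := fun x hx => by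
    have h1 : (f x)⁻¹ * h x ∈ Z :=
      d.inv_mul_mem (hfm.mem_S hx) (hhm.mem_S hx) (by rw [hfi x hx, hei x hx])
    have h2 : (f x)⁻¹ * h x ∈ W := (hZ.trans hPW) h1
    rw [show h x = f x * ((f x)⁻¹ * h x) by group, ← d.fix hfm h1 h2, ← hfm.map_mul hx h2]
    exact hfm.mem_img.2 ⟨_, mul_mem hx h2, rfl⟩
  obtain ⟨w, hw, hwe⟩ := ih W hlt hWT (f' ∘ h) (hh.comp (d.gmap_inv hf f' hf'1) himg) fun x hx => by
    show ext1 θ (f' (h x)) = ext1 θ x
    obtain ⟨z, hz, hze⟩ := hfm.mem_img.1 (himg x hx)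
    rw [← hze, hf'1 z hz]
    have h1 : ext1 θ (f z) = ext1 θ (f x) := by rw [hze, hei x hx, hfi x hx]
    rw [hfi z hz, hfi x hx] at h1
    exact he.inj (ext1_mem_imgι hWS hz) (ext1_mem_imgι hWS hx) h1
  refine ((gen_conj (Subgroup.mem_inf.2 ⟨hWT hw, (hW hw).2⟩)).comp hfg).congr fun x hx => ?_
  show h x = f (w * x * w⁻¹)
  rw [← hwe x (hPW hx)]
  exact ((hf'2 _ (himg x (hPW hx))).2).symm

end LiftData

end CfsgLib.Fusion.CentralLift
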