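import Cfsg.Agent.Lib.Fusion.System.FactorExist
import Cfsg.Agent.Lib.Fusion.System.Invariant
import Cfsg.Agent.Lib.Fusion.System.StrongInvariance
import Cfsg.Agent.Lib.Fusion.System.PPrimeIndex
import Cfsg.Agent.Lib.Fusion.System.SubsystemCentric
import Cfsg.Agent.Lib.Fusion.System.Puig
import Cfsg.Prelude.Def_FusionComponents

/-!
# Lifting normal subsystems through a central subgroup: the maps

`F` is saturated over `S`, `Z` is central in `F`, `θ` reads `F' = F/Z` and `E'` over `T'` is normal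
in `F'`.  The maps of the lifted system are the composites of conjugations by the preimage `T` of
`T'` and of automorphisms of order prime to `p` of preimages of centric subgroups of `E'` whose
images are maps of `E'`.
-/

set_option autoImplicit false
set_option linter.style.haveILetI false
set_option linter.unusedSectionVars false

open Subgroup
open scoped Classical

namespace CfsgLib.Fusion.CentralLift

open Cfsg (FusionSystem autInducedBy)
open Cfsg.FusionSystem (normalizerIn centralizerIn preimageAlong)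
open CfsgLib.Fusion

universe u v

variable {Ω : Type u} [Group Ω] {Ω' : Type v} [Group Ω'] {S Z : Subgroup Ω} {S' T' : Subgroup Ω'}
  {F : FusionSystem S} {F' : FusionSystem S'} {E' : FusionSystem T'} {θ : S →* Ω'} {p : ℕ}
  [Finite S] [Fact p.Prime] {P Q R : Subgroup Ω} {f g : Ω → Ω} {e e₁ e₂ : Ω' → Ω'}

/-- A normal subsystem of the quotient by a central subgroup. -/
structure LiftData (F : FusionSystem S) (Z : Subgroup Ω) (θ : S →* Ω') (F' : FusionSystem S')
    (E' : FusionSystem T') (p : ℕ) : Prop where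
  isPGroup : IsPGroup p S
  sat : F.IsSaturated p
  central : F.IsCentral Z
  factor : F.IsFactorSystem Z θ F'
  normal : E'.IsNormalIn F' p

/-- `e` is the map induced by `f` on the image of `P`. -/
def Ind (θ : S →* Ω') (P : Subgroup Ω) (f : Ω → Ω) (e : Ω' → Ω') : Prop :=
  ∀ x ∈ P, ext1 θ (f x) = e (ext1 θ x)

/-- `f` induces on the image of `P` a map of `E'`. -/
def Over (θ : S →* Ω') (E' : FusionSystem T') (P : Subgroup Ω) (f : Ω → Ω) : Prop :=
  ∃ e, IsMap E' (imgι θ P) e ∧ Ind θ P f e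

theorem Ind.mono (h : Ind θ P f e) (hQ : Q ≤ P) : Ind θ Q f e := fun x hx => h x (hQ hx)

theorem Over.mono (h : Over θ E' P f) (hQ : Q ≤ P) : Over θ E' Q f := by
  obtain ⟨e, he, hi⟩ := h
  exact ⟨e, he.mono (imgι_mono hQ), hi.mono hQ⟩

theorem Over.congr (h : Over θ E' P f) (hg : ∀ x ∈ P, g x = f x) : Over θ E' P g := by
  obtain ⟨e, he, hi⟩ := h
  exact ⟨e, he, fun x hx => by rw [hg x hx, hi x hx]⟩

/-- Automorphisms of the preimage of a centric subgroup lying over `E'`. -/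
def Over1 (θ : S →* Ω') (F : FusionSystem S) (E' : FusionSystem T') (R : Subgroup Ω)
    (a : MulAut R) : Prop :=
  a ∈ F.autGroup R ∧ Over θ E' R (autFun a)

/-- The maps of the lifted system. -/
inductive GMap (F : FusionSystem S) (Z : Subgroup Ω) (θ : S →* Ω') (E' : FusionSystem T') (p : ℕ) :
    Subgroup Ω → (Ω → Ω) → Prop
  | base {R P : Subgroup Ω} {β : MulAut R} : Z ≤ R → R ≤ preimageAlong θ T' →
      E'.IsCentric (imgι θ R) → P ≤ R → Over1 θ F E' R β → (orderOf β).Coprime p →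
      GMap F Z θ E' p P (autFun β)
  | conj {P : Subgroup Ω} {t : Ω} : P ≤ preimageAlong θ T' → t ∈ preimageAlong θ T' →
      GMap F Z θ E' p P (fun x => t * x * t⁻¹)
  | comp {P R : Subgroup Ω} {f g : Ω → Ω} : GMap F Z θ E' p P f → GMap F Z θ E' p R g →
      (∀ x ∈ P, f x ∈ R) → GMap F Z θ E' p P (g ∘ f)
  | congr {P : Subgroup Ω} {f g : Ω → Ω} : GMap F Z θ E' p P f → (∀ x ∈ P, g x = f x) →
      GMap F Z θ E' p P g

namespace LiftData

variable (d : LiftData F Z θ F' E' p)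
include d

theorem Z_le : Z ≤ S := d.central.1

theorem Z_normal : F.IsNormal Z := by
  refine isNormal_iff.2 ⟨d.Z_le, fun P f hf => ?_⟩
  obtain ⟨g, hg, hgf, hgc⟩ := (isCentral_iff.1 d.central).2 P f hf
  exact ⟨g, hg, hgf, img_eq_self_of_fix hgc⟩

theorem Z_closed : F.StronglyClosed Z := stronglyClosed_of_isNormal d.Z_normal

theorem fix (hf : IsMap F P f) {z : Ω} (hz : z ∈ Z) (hzP : z ∈ P) : f z = z := by
  obtain ⟨g, -, hgf, hgc⟩ := (isCentral_iff.1 d.central).2 P f hf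
  rw [← hgf z hzP, hgc z hz]

theorem Z_comm {z s : Ω} (hz : z ∈ Z) (hs : s ∈ S) : s * z = z * s := by
  have hcf : s * z * s⁻¹ = z :=
    d.fix (isMap_conj (F := F) d.Z_le hs) hz hz
  calc s * z = s * z * s⁻¹ * s := by group
    _ = z * s := by rw [hcf]

theorem T'_closed : F'.StronglyClosed T' := d.normal.1.2.2.2.1

theorem T'_le : T' ≤ S' := d.T'_closed.1

theorem satE : E'.IsSaturated p := d.normal.1.1

theorem satF : F'.IsSaturated p := d.normal.1.2.1

theorem invE : E'.IsInvariantIn F' := d.normal.1.2.2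

theorem isMap_sub {P' : Subgroup Ω'} (he : IsMap E' P' e) : IsMap F' P' e :=
  let ⟨φ, hφ, hφe⟩ := he; ⟨φ, d.invE.1 _ hφ, hφe⟩

theorem range : θ.range = S' := d.factor.2.2.1

theorem finite_S' : Finite S' := by
  rw [← d.range]; exact Finite.of_surjective _ θ.rangeRestrict_surjective

theorem finite_T' : Finite T' := by
  haveI := d.finite_S'
  exact finite_of_le d.T'_le

theorem isPGroup' : IsPGroup p S' := by
  rw [← d.range]; exact d.isPGroup.of_surjective _ θ.rangeRestrict_surjective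

theorem isPGroupT : IsPGroup p T' := d.isPGroup'.to_le d.T'_le

theorem surj : F.IsSurjectiveMorphism F' θ :=
  isSurjectiveMorphism_factor d.isPGroup d.sat d.Z_closed d.factor

theorem strongInv : StrongInv E' F' := by
  haveI := d.finite_S'
  exact (isInvariantIn_iff_strongInv d.isPGroup' d.satF d.invE.1 d.T'_closed).1 d.invE

theorem ext1_eq_one_iff {x : Ω} (hx : x ∈ S) : ext1 θ x = 1 ↔ x ∈ Z := by
  rw [ext1_apply θ hx]; exact d.factor.2.1 ⟨x, hx⟩

theorem inv_mul_mem {x y : Ω} (hx : x ∈ S) (hy : y ∈ S) (h : ext1 θ x = ext1 θ y) :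
    x⁻¹ * y ∈ Z := by
  rw [← d.ext1_eq_one_iff (mul_mem (inv_mem hx) hy), ext1_mul θ (inv_mem hx) hy, ext1_inv θ hx, h,
    inv_mul_cancel]

theorem preimage_bot : preimageAlong θ ⊥ = Z := by
  ext x
  rw [mem_preimageAlong, Subgroup.mem_bot]
  exact ⟨fun ⟨hx, h⟩ => (d.ext1_eq_one_iff hx).1 h, fun hx =>
    ⟨d.Z_le hx, (d.ext1_eq_one_iff (d.Z_le hx)).2 hx⟩⟩

theorem preimage_imgι (hP : P ≤ S) (hZ : Z ≤ P) : preimageAlong θ (imgι θ P) = P :=
  preimageAlong_imgι hP (d.preimage_bot.le.trans hZ)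

theorem Z_le_preimage (P' : Subgroup Ω') : Z ≤ preimageAlong θ P' :=
  d.preimage_bot.ge.trans (preimageAlong_mono bot_le)

theorem imgι_preimage {P' : Subgroup Ω'} (hP' : P' ≤ S') : imgι θ (preimageAlong θ P') = P' :=
  imgι_preimageAlong (hP'.trans d.range.ge)

theorem mem_of_ext1 (hP : P ≤ S) (hZ : Z ≤ P) {x : Ω} (hx : x ∈ S) (h : ext1 θ x ∈ imgι θ P) :
    x ∈ P := by
  rw [← d.preimage_imgι hP hZ]
  exact mem_preimageAlong.2 ⟨hx, h⟩

theorem T_closed : F.StronglyClosed (preimageAlong θ T') := by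
  refine stronglyClosed_iff.2 ⟨preimageAlong_le θ T', fun P f hP hf x hx => ?_⟩
  obtain ⟨f', hf', hf'e⟩ := exists_image_map d.surj hf
  refine mem_preimageAlong.2 ⟨hf.mem_S hx, ?_⟩
  rw [← hf'e x hx]
  refine (stronglyClosed_iff.1 d.T'_closed).2 _ f' ?_ hf' _ (ext1_mem_imgι hf.le hx)
  intro y hy
  obtain ⟨z, hz, rfl⟩ := (mem_imgι hf.le).1 hy
  exact (mem_preimageAlong.1 (hP hz)).2

theorem imgι_T : imgι θ (preimageAlong θ T') = T' := d.imgι_preimage d.T'_le

theorem imgι_le_T' (hP : P ≤ preimageAlong θ T') : imgι θ P ≤ T' :=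
  (imgι_mono hP).trans d.imgι_T.le

/-- The image of a map under its induced map. -/
theorem imgι_img_eq (hf : IsMap F P f) (he : IsMap E' (imgι θ P) e) (hi : Ind θ P f e) :
    imgι θ (img P f) = img (imgι θ P) e := by
  ext y
  rw [mem_imgι hf.img_le, he.mem_img]
  constructor
  · rintro ⟨z, hz, rfl⟩
    obtain ⟨x, hx, rfl⟩ := hf.mem_img.1 hz
    exact ⟨_, ext1_mem_imgι hf.le hx, (hi x hx).symm⟩
  · rintro ⟨z, hz, rfl⟩
    obtain ⟨x, hx, rfl⟩ := (mem_imgι hf.le).1 hz
    exact ⟨_, hf.mem_img.2 ⟨x, hx, rfl⟩, hi x hx⟩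

theorem over_conj (hP : P ≤ preimageAlong θ T') {t : Ω} (ht : t ∈ preimageAlong θ T') :
    Over θ E' P (fun x => t * x * t⁻¹) := by
  obtain ⟨htS, ht'⟩ := mem_preimageAlong.1 ht
  exact ⟨_, isMap_conj (d.imgι_le_T' hP) ht', fun x hx =>
    ext1_conj θ htS (preimageAlong_le θ T' (hP hx))⟩

theorem over_id (hP : P ≤ preimageAlong θ T') : Over θ E' P id :=
  (d.over_conj hP (one_mem _)).congr fun x _ => by simp

theorem over_comp (hf : Over θ E' P f) (hg : Over θ E' R g) (hfm : IsMap F P f)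
    (hm : ∀ x ∈ P, f x ∈ R) (hR : R ≤ S) : Over θ E' P (g ∘ f) := by
  obtain ⟨e, he, hi⟩ := hf
  obtain ⟨e', he', hi'⟩ := hg
  refine ⟨e' ∘ e, he.comp he' fun y hy => ?_, fun x hx => ?_⟩
  · obtain ⟨x, hx, rfl⟩ := (mem_imgι hfm.le).1 hy
    rw [← hi x hx]
    exact ext1_mem_imgι hR (hm x hx)
  · show ext1 θ (g (f x)) = e' (e (ext1 θ x))
    rw [hi' _ (hm x hx), hi x hx]

theorem over_inv (hf : Over θ E' P f) (hfm : IsMap F P f) {f' : Ω → Ω}
    (hinv : ∀ x ∈ P, f' (f x) = x) : Over θ E' (img P f) f' := by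
  obtain ⟨e, he, hi⟩ := hf
  obtain ⟨e', he', he'1, -⟩ := he.exists_inv
  refine ⟨e', by rwa [d.imgι_img_eq hfm he hi], fun y hy => ?_⟩
  obtain ⟨x, hx, rfl⟩ := hfm.mem_img.1 hy
  rw [hinv x hx, hi x hx, he'1 _ (ext1_mem_imgι hfm.le hx)]

theorem over1_one (hR : R ≤ preimageAlong θ T') : Over1 θ F E' R (1 : MulAut R) :=
  ⟨one_mem _, (d.over_id hR).congr fun _ hx => autFun_one hx⟩

theorem over1_mul (hR : R ≤ S) {a b : MulAut R} (ha : Over1 θ F E' R a) (hb : Over1 θ F E' R b) :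
    Over1 θ F E' R (a * b) :=
  ⟨mul_mem ha.1 hb.1, (d.over_comp hb.2 ha.2 ((mem_autGroup_iff hR).1 hb.1)
    (fun _ hx => autFun_mem _ hx) hR).congr fun _ hx => autFun_mul _ _ hx⟩

theorem over1_inv (hR : R ≤ S) {a : MulAut R} (ha : Over1 θ F E' R a) : Over1 θ F E' R a⁻¹ := by
  refine ⟨inv_mem ha.1, ?_⟩
  have h := d.over_inv ha.2 ((mem_autGroup_iff hR).1 ha.1) (f' := autFun a⁻¹)
    fun x hx => PPrime.autFun_symm hx
  rwa [img_autFun] at h

theorem over1_pow (hR : R ≤ preimageAlong θ T') {a : MulAut R} (ha : Over1 θ F E' R a) :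
    ∀ n : ℕ, Over1 θ F E' R (a ^ n)
  | 0 => by rw [pow_zero]; exact d.over1_one hR
  | n + 1 => by
    rw [pow_succ]
    exact d.over1_mul (hR.trans (preimageAlong_le θ T')) (over1_pow hR ha n) ha

theorem gmap_isMap (hf : GMap F Z θ E' p P f) :
    IsMap F P f ∧ P ≤ preimageAlong θ T' ∧ Over θ E' P f ∧
      ∀ x ∈ P, f x ∈ preimageAlong θ T' := by
  induction hf with
  | base hZ hR hc hle hβ hk =>
    exact ⟨((mem_autGroup_iff (hR.trans (preimageAlong_le θ T'))).1 hβ.1).mono hle, hle.trans hR,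
      hβ.2.mono hle, fun x hx => hR (autFun_mem _ (hle hx))⟩
  | conj hP ht =>
    exact ⟨isMap_conj (hP.trans (preimageAlong_le θ T')) (preimageAlong_le θ T' ht), hP,
      d.over_conj hP ht, fun x hx => mul_mem (mul_mem ht (hP hx)) (inv_mem ht)⟩
  | comp _ _ hm h1 h2 =>
    exact ⟨h1.1.comp h2.1 hm, h1.2.1, d.over_comp h1.2.2.1 h2.2.2.1 h1.1 hm h2.1.le,
      fun x hx => h2.2.2.2 _ (hm x hx)⟩
  | congr _ he h1 =>
    exact ⟨h1.1.congr he, h1.2.1, h1.2.2.1.congr he, fun x hx => he x hx ▸ h1.2.2.2 x hx⟩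

end LiftData

theorem GMap.mono (h : GMap F Z θ E' p P f) : ∀ {Q : Subgroup Ω}, Q ≤ P → GMap F Z θ E' p Q f := by
  induction h with
  | base hZ hR hc hle hβ hk => exact fun hQ => .base hZ hR hc (hQ.trans hle) hβ hk
  | conj hP ht => exact fun hQ => .conj (hQ.trans hP) ht
  | comp _ h2 hm ih1 _ => exact fun hQ => .comp (ih1 hQ) h2 fun x hx => hm x (hQ hx)
  | congr _ he ih => exact fun hQ => .congr (ih hQ) fun x hx => he x (hQ hx)

theorem GMap.id_map (hP : P ≤ preimageAlong θ T') : GMap F Z θ E' p P id :=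
  (GMap.conj hP (one_mem _)).congr fun x _ => by simp

theorem LiftData.gmap_inv (d : LiftData F Z θ F' E' p) (h : GMap F Z θ E' p P f) :
    ∀ f', (∀ x ∈ P, f' (f x) = x) → GMap F Z θ E' p (img P f) f' := by
  induction h with
  | @base R P β hZ hR hc hle hβ hk =>
    intro f' hinv
    have hRS := hR.trans (preimageAlong_le θ T')
    have hm := ((mem_autGroup_iff hRS).1 hβ.1).mono hle
    have hle' : img P (autFun β) ≤ R := fun y hy => by
      obtain ⟨x, hx, rfl⟩ := hm.mem_img.1 hy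
      exact autFun_mem β (hle hx)
    refine (GMap.base (β := β⁻¹) hZ hR hc hle' (d.over1_inv hRS hβ)
      (by rwa [orderOf_inv])).congr fun y hy => ?_
    obtain ⟨x, hx, rfl⟩ := hm.mem_img.1 hy
    rw [hinv x hx, PPrime.autFun_symm (hle hx)]
  | @conj P t hP ht =>
    intro f' hinv
    have hm := (d.gmap_isMap (GMap.conj (F := F) (p := p) (Z := Z) (E' := E') hP ht)).1
    have hle : img P (fun x => t * x * t⁻¹) ≤ preimageAlong θ T' := fun y hy => by
      obtain ⟨x, hx, rfl⟩ := hm.mem_img.1 hy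
      exact mul_mem (mul_mem ht (hP hx)) (inv_mem ht)
    refine (GMap.conj (F := F) (p := p) (Z := Z) (E' := E') hle (inv_mem ht)).congr fun y hy => ?_
    obtain ⟨x, hx, rfl⟩ := hm.mem_img.1 hy
    rw [hinv x hx]; group
  | @comp P R a b h1 h2 hm ih1 ih2 =>
    intro f' hinv
    have hma := (d.gmap_isMap h1).1
    have hmb := (d.gmap_isMap h2).1
    obtain ⟨a', -, ha'1, -⟩ := hma.exists_inv
    obtain ⟨b', -, hb'1, -⟩ := hmb.exists_inv
    have hab : img P (b ∘ a) = img (img P a) b := (img_img hma).symm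
    have hsub : img P a ≤ R := fun y hy => by
      obtain ⟨x, hx, rfl⟩ := hma.mem_img.1 hy
      exact hm x hx
    rw [hab]
    refine ((ih2 b' hb'1).mono (hmb.img_mono hsub) |>.comp (ih1 a' ha'1) fun z hz => ?_).congr
      fun z hz => ?_
    · obtain ⟨y, hy, rfl⟩ := (hmb.mono hsub).mem_img.1 hz
      rw [hb'1 _ (hsub hy)]
      exact hy
    · obtain ⟨y, hy, rfl⟩ := (hmb.mono hsub).mem_img.1 hz
      obtain ⟨x, hx, rfl⟩ := hma.mem_img.1 hy
      show f' (b (a x)) = a' (b' (b (a x)))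
      rw [hb'1 _ (hm x hx), ha'1 x hx]
      exact hinv x hx
  | @congr P a b h1 he ih =>
    intro f' hinv
    rw [IsMap.img_congr (g := a) he]
    exact ih f' fun x hx => by rw [← he x hx]; exact hinv x hx

end CfsgLib.Fusion.CentralLift
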